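import Cfsg.Agent.Lib.HallHigmanB.Select

/-!
# A minimal invariant `q`-subgroup of class two moved by a central `p`-element
-/

set_option autoImplicit false

namespace Cfsg.Agent.Lib.HallHigmanFermat

open Subgroup
open scoped commutatorElement
open Cfsg.Agent.Lib Cfsg.Agent.Lib.HallHigmanB

variable {H : Type*} [Group H] [Finite H] {p : ℕ} [Fact p.Prime]

/-- The minimal configuration. -/
theorem exists_classTwo {O A : Subgroup H} {y : H} (hAO : A ≤ normalizer (O : Set H))
    (hA : IsPGroup p A) (hyA0 : y ∈ A) (hycen : ∀ a ∈ A, a * y = y * a)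
    (hO : (Nat.card O).Coprime p) (hy : ¬ O ≤ centralizer {y}) :
    ∃ (q : ℕ) (Q : Subgroup H), q.Prime ∧ q ≠ p ∧ Q ≤ O ∧ IsPGroup q Q ∧
      A ≤ normalizer (Q : Set H) ∧ (∀ a ∈ Q, ∀ b ∈ Q, ∀ c ∈ Q, ⁅a, b⁆ * c = c * ⁅a, b⁆) ∧
      ∃ g ∈ Q, y * g * y⁻¹ ≠ g := by
  classical
  have hcop : (Nat.card A).Coprime (Nat.card O) := by
    obtain ⟨n, hn⟩ := hA.exists_card_eq
    rw [hn]
    exact hO.symm.pow_left n
  have hsol : Group.IsSolvable A := by
    haveI := hA.isNilpotent
    infer_instance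
  -- some invariant Sylow subgroup is moved
  obtain ⟨q, hq, P, hP, hPy⟩ : ∃ q : ℕ, ∃ _ : Fact q.Prime, ∃ P : Sylow q O,
      A ≤ normalizer (((P : Subgroup O).map O.subtype : Subgroup H) : Set H) ∧
        ¬ (P : Subgroup O).map O.subtype ≤ centralizer {y} := by
    by_contra hall
    push Not at hall
    refine hy ?_
    have hdvd : Nat.card O ∣ Nat.card (O ⊓ centralizer {y} : Subgroup H) := by
      rw [Nat.dvd_iff_prime_pow_dvd_dvd]
      intro q k hq hk
      haveI := Fact.mk hq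
      obtain ⟨P, hP⟩ := Coprime.exists_invariant_sylow (p := q) hAO hcop (Or.inl hsol)
      refine dvd_trans ?_ (card_dvd_of_le (le_inf (map_subtype_le (P : Subgroup O))
        (hall q ⟨hq⟩ P hP)))
      rw [card_map_of_injective O.subtype_injective]
      exact P.pow_dvd_card_of_pow_dvd_card hk
    have := eq_of_le_of_card_ge (inf_le_left : O ⊓ centralizer {y} ≤ O)
      (Nat.le_of_dvd Nat.card_pos hdvd)
    exact this.ge.trans inf_le_right
  have hqp : q ≠ p := by
    rintro rfl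
    refine hPy ?_
    have hP0 : (P : Subgroup O) = ⊥ := by
      obtain ⟨k, hk⟩ := P.2.exists_card_eq
      rcases Nat.eq_zero_or_pos k with h0 | h0
      · exact eq_bot_of_card_eq _ (by rw [hk, h0, pow_zero])
      · exfalso
        refine (Nat.Prime.coprime_iff_not_dvd hq.out).1 hO.symm ?_
        exact (dvd_pow_self q h0.ne').trans (hk ▸ card_subgroup_dvd_card _)
    rw [hP0, Subgroup.map_bot]
    exact bot_le
  obtain ⟨Q, ⟨hQO, hQp, hAQ, hQy⟩, hmin⟩ := (wellFounded_lt (α := Subgroup H)).has_min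
    {Q | Q ≤ O ∧ IsPGroup q Q ∧ A ≤ normalizer (Q : Set H) ∧ ¬ Q ≤ centralizer {y}}
    ⟨(P : Subgroup O).map O.subtype, map_subtype_le _, P.2.map _, hP, hPy⟩
  have hmin' : ∀ R, R ≤ Q → R ≠ Q → A ≤ normalizer (R : Set H) → R ≤ centralizer {y} := by
    intro R h1 h2 h3
    by_contra h4
    exact hmin R ⟨h1.trans hQO, hQp.to_le h1, h3, h4⟩ (lt_of_le_of_ne h1 h2)
  have hyQ : zpowers y ≤ normalizer (Q : Set H) := (zpowers_le.2 hyA0).trans hAQ
  have hyA : A ≤ normalizer (zpowers y : Set H) := by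
    refine le_trans ?_ (centralizer_le_normalizer _)
    rw [centralizer_zpowers_eq_singleton]
    intro a ha
    rw [mem_centralizer_singleton_iff]
    exact hycen a ha
  have hcopQ : (Nat.card (zpowers y)).Coprime (Nat.card Q) :=
    (hcop.coprime_dvd_left (card_dvd_of_le (zpowers_le.2 hyA0))).coprime_dvd_right (card_dvd_of_le hQO)
  have hQeq : ⁅Q, zpowers y⁆ = Q := by
    by_contra hne
    have h1 := hmin' _ (Coprime.commutator_le_of_le_normalizer hyQ) hne
      (Coprime.le_normalizer_commutator hAQ hyA)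
    have h2 : ⁅⁅Q, zpowers y⁆, zpowers y⁆ = ⊥ := by
      rw [commutator_eq_bot_iff_le_centralizer, centralizer_zpowers_eq_singleton]
      exact h1
    have h3 := Coprime.commutator_eq_bot_of_commutator_commutator_eq_bot hyQ hcopQ h2
    rw [commutator_eq_bot_iff_le_centralizer, centralizer_zpowers_eq_singleton] at h3
    exact hQy h3
  haveI := hq
  have hQne : Q ≠ ⊥ := fun h => hQy (h ▸ bot_le)
  have hD : ⁅Q, Q⁆ < Q := Coprime.commutator_lt_of_isPGroup hQp hQp le_normalizer hQne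
  have hDy : ⁅Q, Q⁆ ≤ centralizer {y} :=
    hmin' _ hD.le hD.ne (Coprime.le_normalizer_commutator hAQ hAQ)
  have hDQ : ⁅⁅Q, Q⁆, Q⁆ = ⊥ := by
    have h1 : ⁅⁅zpowers y, ⁅Q, Q⁆⁆, Q⁆ = ⊥ := by
      rw [show ⁅zpowers y, ⁅Q, Q⁆⁆ = ⊥ by
        rw [commutator_comm, commutator_eq_bot_iff_le_centralizer, centralizer_zpowers_eq_singleton]; exact hDy,
        commutator_bot_left]
    have h2 : ⁅⁅⁅Q, Q⁆, Q⁆, zpowers y⁆ = ⊥ := by
      rw [commutator_eq_bot_iff_le_centralizer, centralizer_zpowers_eq_singleton]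
      exact ((commutator_mono hD.le le_rfl)).trans hDy
    have h3 := commutator_commutator_eq_bot_of_rotate h1 h2
    rw [hQeq, commutator_comm] at h3
    exact h3
  refine ⟨q, Q, hq.out, hqp, hQO, hQp, hAQ, fun a ha b hb c hc => ?_, ?_⟩
  · exact (mem_centralizer_iff.1 (commutator_eq_bot_iff_le_centralizer.1 hDQ
      (commutator_mem_commutator ha hb)) c hc).symm
  · by_contra hall
    push Not at hall
    refine hQy fun g hg => ?_
    rw [mem_centralizer_singleton_iff]
    exact (mul_inv_eq_iff_eq_mul.1 (hall g hg)).symm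

end Cfsg.Agent.Lib.HallHigmanFermat
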