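import Cfsg.Agent.Lib.HallHigmanFermat.Component
import Cfsg.Agent.Lib.HallHigmanFermat.Select

/-!
# The `p ^ (e - 1)`-th powers of elements without a free cyclic module commute
-/

set_option autoImplicit false

namespace Cfsg.Agent.Lib.HallHigmanFermat

open Module Subgroup Cfsg.Agent.Lib.HallHigmanB
open scoped commutatorElement

variable {K V G : Type*} [Field K] [IsAlgClosed K] [AddCommGroup V] [Module K V]
  [FiniteDimensional K V] [Group G] [Finite G] {p : ℕ} [hp : Fact p.Prime] [CharP K p]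
  {ρ : G →* Module.End K V} {Q : Subgroup G} {W : Submodule K V}

/-- The quotient by the scalars, as a commutative group. -/
@[reducible] noncomputable def classCommGroup (hW : IrredSub ρ Q W)
    (hcls : ∀ a ∈ Q, ∀ b ∈ Q, ∀ c ∈ Q, ⁅a, b⁆ * c = c * ⁅a, b⁆) :
    CommGroup (Q ⧸ scalarSub hW.2.1) :=
  { QuotientGroup.Quotient.group (scalarSub hW.2.1) with mul_comm := quotient_comm hW hcls }

omit [IsAlgClosed K] [FiniteDimensional K V] [Finite G] [CharP K p] in
theorem not_dvd_of_cast_ne_zero [CharP K p] (hQ : (Nat.card Q : K) ≠ 0) : ¬ p ∣ Nat.card Q :=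
  fun h => hQ ((CharP.cast_eq_zero_iff K p _).2 h)

/-- The orbit of the class of `W` under `t`. -/
theorem orbit (hW : IrredSub ρ Q W) {t : G} (ht : t ∈ normalizer (Q : Set G)) {e : ℕ}
    (htp : t ^ p ^ e = 1) (hnil : (ρ t - 1) ^ (p ^ e - 1) = 0) :
    ∃ (a : ℕ) (U : Submodule K V), a < e ∧ IrredSub ρ Q U ∧ Linked ρ Q W U ∧
      t ^ p ^ a ∈ classStab ρ hW ∧ (∀ u ∈ U, ρ (t ^ p ^ a) u ∈ U) ∧
      ∀ u ∈ U, ((ρ (t ^ p ^ a) - 1) ^ (p ^ (e - a) - 1)) u = 0 := by
  classical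
  have hp' := hp.out
  have hT : t ^ p ^ e ∈ classStab ρ hW := by rw [htp]; exact one_mem _
  have hex : ∃ j, 0 < j ∧ t ^ j ∈ classStab ρ hW := ⟨p ^ e, pow_pos hp'.pos e, hT⟩
  obtain ⟨hj, hjmem⟩ := Nat.find_spec hex
  set j := Nat.find hex with hjdef
  have hjdvd : j ∣ p ^ e := by
    rw [Nat.dvd_iff_mod_eq_zero]
    by_contra hne
    refine Nat.find_min hex (Nat.mod_lt (p ^ e) hj) ⟨Nat.pos_of_ne_zero hne, ?_⟩
    have h1 : t ^ p ^ e = t ^ (p ^ e % j) * (t ^ j) ^ (p ^ e / j) := by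
      rw [← pow_mul, ← pow_add, Nat.mod_add_div]
    have h2 := mul_mem hT (inv_mem (pow_mem hjmem (p ^ e / j)))
    rwa [h1, mul_inv_cancel_right] at h2
  obtain ⟨a, hae, hja⟩ := (Nat.dvd_prime_pow hp').1 hjdvd
  obtain ⟨U, hU, hWU, hUinv⟩ := exists_invariant_copy hW (pow_mem ht j) hjmem.2
  have hmin : ∀ i, 0 < i → i < j → ¬ Linked ρ Q U (U.map (ρ (t ^ i))) := by
    intro i hi hij h
    have h1 := Linked.trans hW hU hWU h
    have h2 := (hWU.map (pow_mem ht i) hW.2.1).symm (irredSub_map (pow_mem ht i) hW)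
      (irredSub_map (pow_mem ht i) hU)
    exact Nat.find_min hex hij
      ⟨hi, pow_mem ht i, Linked.trans hW (irredSub_map (pow_mem ht i) hU) h1 h2⟩
  rw [hja] at hj hjmem hUinv hmin
  have hlow : ∀ u ∈ U, u ≠ 0 → ((ρ t - 1) ^ (p ^ a - 1)) u ≠ 0 := by
    intro u hu hu0 h
    rw [sub_one_pow_pPow_sub_one, LinearMap.coe_sum, Finset.sum_apply] at h
    exact hu0 (eq_zero_of_sum_eq_zero hU ht hmin hj hu (by simpa [map_pow] using h))
  have hlt : a < e := by
    refine lt_of_le_of_ne hae fun h => ?_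
    obtain ⟨u, hu, hu0⟩ := (Submodule.ne_bot_iff U).1 hU.1
    apply hlow u hu hu0
    rw [h, hnil]
    rfl
  refine ⟨a, U, hlt, hU, hWU, hjmem, hUinv, fun u hu => ?_⟩
  have hmem : ∀ i : ℕ, ((ρ (t ^ p ^ a) - 1) ^ i) u ∈ U := by
    intro i
    induction i with
    | zero => simpa using hu
    | succ i ih =>
      rw [pow_succ', Module.End.mul_apply, LinearMap.sub_apply, Module.End.one_apply]
      exact sub_mem (hUinv _ ih) ih
  by_contra hne
  apply hlow _ (hmem _) hne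
  rw [map_pow, ← sub_one_pow_pPow, ← pow_mul, ← Module.End.mul_apply, ← pow_add]
  have e1 : p ^ a - 1 + p ^ a * (p ^ (e - a) - 1) = p ^ e - 1 := by
    rw [Nat.mul_sub, mul_one, ← pow_add, Nat.add_sub_cancel' hae]
    have := Nat.one_le_pow a p hp'.pos
    have := Nat.pow_le_pow_right hp'.pos hae
    omega
  rw [e1, hnil]
  rfl

/-- The moved part of a component is small. -/
theorem moved_lt (hQ : (Nat.card Q : K) ≠ 0) (hW : IrredSub ρ Q W)
    (hcls : ∀ a ∈ Q, ∀ b ∈ Q, ∀ c ∈ Q, ⁅a, b⁆ * c = c * ⁅a, b⁆)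
    {s : G} (hs : s ∈ classStab ρ hW) {U : Submodule K V} (hU : IrredSub ρ Q U)
    (hWU : Linked ρ Q W U) (hsU : ∀ u ∈ U, ρ s u ∈ U) {m : ℕ} (hm : 1 ≤ m) (hsm : s ^ p ^ m = 1)
    (hnil : ∀ u ∈ U, ((ρ s - 1) ^ (p ^ m - 1)) u = 0) :
    letI := classCommGroup hW hcls
    Nat.card (moved (X := Q ⧸ scalarSub hW.2.1) (classAction hW ⟨s, hs⟩ ^ p ^ (m - 1))) < (p ^ m + 1) ^ 2 := by
  classical
  letI := classCommGroup hW hcls
  have hp' := hp.out
  set θ := classAction hW ⟨s, hs⟩ with hθ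
  set y := θ ^ p ^ (m - 1) with hy
  set Y := s ^ p ^ (m - 1) with hY
  have hθpow : ∀ (k : ℕ) (g : Q), (θ ^ k) (g : Q ⧸ scalarSub hW.2.1) =
      ((⟨s ^ k * g * (s ^ k)⁻¹, conj_mem (pow_mem hs.1 k) g.2⟩ : Q) : Q ⧸ scalarSub hW.2.1) := by
    intro k g
    rw [hθ, ← map_pow]
    exact classAction_mk hW _ g
  have hX : ¬ p ∣ Nat.card (Q ⧸ scalarSub hW.2.1) :=
    fun h => not_dvd_of_cast_ne_zero (p := p) hQ (h.trans (card_quotient_dvd_card _))
  have hθm : θ ^ p ^ m = 1 := by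
    rw [hθ, ← map_pow, show (⟨s, hs⟩ : classStab ρ hW) ^ p ^ m = 1 from Subtype.ext (by simpa using hsm),
      map_one]
  have hyp : y ^ p = 1 := by
    rw [hy, ← pow_mul, ← pow_succ, Nat.sub_add_cancel hm, hθm]
  by_cases hbot : moved (X := Q ⧸ scalarSub hW.2.1) y = ⊥
  · rw [hbot, Subgroup.card_bot]
    exact Nat.one_lt_pow two_ne_zero (by have := Nat.one_le_pow m p hp'.pos; omega)
  haveI : Nontrivial U := Submodule.nontrivial_iff_ne_bot.2 hU.1
  -- scalars on `U`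
  have hscU : ∀ g : Q, g ∈ scalarSub hW.2.1 → ∃ c : K, ∀ u ∈ U, ρ g u = c • u := by
    intro g hg
    obtain ⟨c, hc⟩ := mem_scalarSub.1 hg
    exact ⟨c, scalar_of_linked hW hU hWU g.2 hc⟩
  set σ := restrictRep hU.2.1 with hσ
  have hscσ : ∀ g : Q, g ∈ scalarSub hW.2.1 → ∃ c : K, σ g = c • 1 := fun g hg => by
    obtain ⟨c, hc⟩ := hscU g hg
    exact ⟨c, LinearMap.ext fun u => Subtype.ext (hc u u.2)⟩
  have hσne : ∀ g, σ g ≠ 0 := fun g h => by
    have h1 := map_mul σ g⁻¹ g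
    rw [inv_mul_cancel, map_one, h, mul_zero] at h1
    exact one_ne_zero h1
  have hsUmap : U.map (ρ s) = U := map_eq_self_of_irred hU hs.1 hsU
  have hYU : U.map (ρ Y) = U := by
    have h := map_pow_mul_eq (ρ := ρ) (W := U) (t := s) (j := 1) (by rw [pow_one]; exact hsUmap)
      (p ^ (m - 1))
    rwa [one_mul] at h
  -- the moved part commutes with the fixed part
  have horth : ∀ (g h : Q), (g : Q ⧸ scalarSub hW.2.1) ∈ moved (X := Q ⧸ scalarSub hW.2.1) y → y (h : Q ⧸ scalarSub hW.2.1) = h →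
      σ (h * g * h⁻¹) = σ g := by
    intro g h hg hh
    obtain ⟨x, hx⟩ := hg
    induction x using QuotientGroup.induction_on with
    | _ g' =>
    set g₁ : Q := ⟨Y * g' * Y⁻¹, conj_mem (pow_mem hs.1 _) g'.2⟩ with hg₁
    have hz : (g₁ * g'⁻¹)⁻¹ * g ∈ scalarSub hW.2.1 := by
      rw [← QuotientGroup.eq, QuotientGroup.mk_mul, QuotientGroup.mk_inv, ← div_eq_mul_inv, ← hx]
      show _ = y (g' : Q ⧸ scalarSub hW.2.1) / (g' : Q ⧸ scalarSub hW.2.1)
      rw [hy, hθpow]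
    obtain ⟨b, hb⟩ := hscσ _ hz
    -- the commutator of `h` and `g'`
    set d : Q := h * g' * h⁻¹ * g'⁻¹ with hd
    have hdZ : d ∈ scalarSub hW.2.1 := by
      rw [← QuotientGroup.eq_one_iff]
      simp only [hd, QuotientGroup.mk_mul, QuotientGroup.mk_inv]
      rw [mul_comm (h : Q ⧸ scalarSub hW.2.1) g', mul_inv_cancel_right, mul_inv_cancel]
    obtain ⟨c, hc⟩ := hscU d hdZ
    have hdσ : σ (h * g' * h⁻¹) = c • σ g' := by
      rw [show h * g' * h⁻¹ = d * g' by rw [hd, inv_mul_cancel_right], map_mul,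
        show σ d = c • 1 from LinearMap.ext fun u => Subtype.ext (hc u u.2), smul_mul_assoc, one_mul]
    have hc0 : c ≠ 0 := fun h0 => hσne _ (by rw [hdσ, h0, zero_smul])
    set hY' : Q := ⟨Y * h * Y⁻¹, conj_mem (pow_mem hs.1 _) h.2⟩ with hhY
    have hdY : σ (hY' * g₁ * hY'⁻¹) = c • σ g₁ := by
      have h1 := scalar_conj hU (pow_mem hs.1 _) (by rw [← hY, hYU]; exact Linked.refl hU) d.2 hc
      have e : hY' * g₁ * hY'⁻¹ = ⟨Y * d * Y⁻¹, conj_mem (pow_mem hs.1 _) d.2⟩ * g₁ :=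
        Subtype.ext (by simp [hd, hg₁, hhY, mul_assoc])
      rw [e, map_mul, show σ ⟨Y * d * Y⁻¹, _⟩ = c • 1 from
        LinearMap.ext fun u => Subtype.ext (h1 u u.2), smul_mul_assoc, one_mul]
    have hz2 : h⁻¹ * hY' ∈ scalarSub hW.2.1 := by
      rw [← QuotientGroup.eq, ← hθpow]
      exact hh.symm
    obtain ⟨b₂, hb₂⟩ := hscσ _ hz2
    have hinv : σ (h⁻¹ * hY') * σ g₁ * σ (h⁻¹ * hY')⁻¹ = σ g₁ := by
      have h3 := map_mul σ (h⁻¹ * hY') (h⁻¹ * hY')⁻¹
      rw [mul_inv_cancel, map_one, hb₂, smul_mul_assoc, one_mul] at h3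
      rw [hb₂, smul_mul_assoc, one_mul, smul_mul_assoc, ← mul_smul_comm, ← h3, mul_one]
    have h1' : σ (h * g₁ * h⁻¹) = c • σ g₁ := by
      rw [← hdY, show hY' * g₁ * hY'⁻¹ = h * ((h⁻¹ * hY') * g₁ * (h⁻¹ * hY')⁻¹) * h⁻¹ by group]
      simp only [map_mul σ (h * _) h⁻¹, map_mul σ h]
      congr 2
      rw [map_mul, map_mul, hinv]
    have h2' : σ (h * (g₁ * g'⁻¹) * h⁻¹) = σ (g₁ * g'⁻¹) := by
      have h3 : σ (h * (g₁ * g'⁻¹) * h⁻¹) * σ (h * g' * h⁻¹) = σ (h * g₁ * h⁻¹) := by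
        rw [← map_mul]; congr 1; group
      rw [hdσ, h1', mul_smul_comm] at h3
      have h4 := congrArg (fun f => f * σ g'⁻¹) (smul_right_injective _ hc0 h3)
      simp only [mul_assoc, ← map_mul] at h4
      simpa [← map_mul, mul_assoc] using h4
    set w := (g₁ * g'⁻¹)⁻¹ * g with hw
    have hgw : g = g₁ * g'⁻¹ * w := by rw [hw, mul_inv_cancel_left]
    have hwc : σ (h * w * h⁻¹) = σ w := by
      rw [map_mul, map_mul, hb, mul_smul_comm, mul_one, smul_mul_assoc, ← map_mul, mul_inv_cancel,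
        map_one]
    calc σ (h * g * h⁻¹) = σ (h * (g₁ * g'⁻¹) * h⁻¹ * (h * w * h⁻¹)) := by
          congr 1; rw [hgw]; group
      _ = σ g := by rw [map_mul, h2', hwc, ← map_mul, ← hgw]
  -- the stabiliser of `U`
  let St : Subgroup G :=
    { carrier := {g | U.map (ρ g) = U}
      mul_mem' := fun {a b} ha hb => by
        show U.map (ρ (a * b)) = U
        rw [← map_map_mul, hb, ha]
      one_mem' := by
        show U.map (ρ 1) = U
        rw [map_one, Module.End.one_eq_id, Submodule.map_id]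
      inv_mem' := fun {a} ha => by
        show U.map (ρ a⁻¹) = U
        conv_lhs => rw [← (ha : U.map (ρ a) = U)]
        exact map_map_inv ρ U a }
  have hQSt : ∀ g ∈ Q, g ∈ St := fun g hg =>
    map_eq_self_of_irred hU (Subgroup.le_normalizer hg) (fun u hu => hU.2.1 g hg u hu)
  have hsSt : s ∈ St := hsUmap
  let ρU : St →* Module.End K U :=
    { toFun := fun g => (ρ g).restrict (fun u hu => (g.2 : U.map (ρ g) = U) ▸ Submodule.mem_map_of_mem hu)
      map_one' := by ext u; simp [LinearMap.restrict_apply]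
      map_mul' := fun a b => by ext u; simp [LinearMap.restrict_apply] }
  have hρU : ∀ (g : Q), ρU ⟨g, hQSt g g.2⟩ = σ g := fun g => rfl
  set Q₁ : Subgroup G := ((moved (X := Q ⧸ scalarSub hW.2.1) y).comap (QuotientGroup.mk' (scalarSub hW.2.1))).map Q.subtype with hQ₁
  have hmem₁ : ∀ {g : G}, g ∈ Q₁ ↔ ∃ hg : g ∈ Q, ((⟨g, hg⟩ : Q) : Q ⧸ scalarSub hW.2.1) ∈ moved (X := Q ⧸ scalarSub hW.2.1) y := by
    intro g
    constructor
    · rintro ⟨g, hg, rfl⟩
      exact ⟨g.2, hg⟩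
    · rintro ⟨hg, h⟩
      exact ⟨⟨g, hg⟩, h, rfl⟩
  set Q₁' : Subgroup St := Q₁.subgroupOf St with hQ₁'
  have hQ₁n : ∀ (g : G), g ∈ Q → g ∈ normalizer (Q₁ : Set G) := by
    have key : ∀ g ∈ Q, ∀ x ∈ Q₁, g * x * g⁻¹ ∈ Q₁ := by
      intro g hg x hx
      obtain ⟨hxQ, hxm⟩ := hmem₁.1 hx
      refine hmem₁.2 ⟨mul_mem (mul_mem hg hxQ) (inv_mem hg), ?_⟩
      rw [show (⟨g * x * g⁻¹, mul_mem (mul_mem hg hxQ) (inv_mem hg)⟩ : Q) =
          ⟨g, hg⟩ * ⟨x, hxQ⟩ * ⟨g, hg⟩⁻¹ from rfl, QuotientGroup.mk_mul, QuotientGroup.mk_mul,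
        QuotientGroup.mk_inv, mul_comm ((⟨g, hg⟩ : Q) : Q ⧸ scalarSub hW.2.1), mul_inv_cancel_right]
      exact hxm
    intro g hg
    rw [mem_normalizer_iff]
    exact fun x => ⟨key g hg x, fun h => by simpa [mul_assoc] using key _ (inv_mem hg) _ h⟩
  have hsQ₁ : s ∈ normalizer (Q₁ : Set G) := by
    have key : ∀ t : classStab ρ hW, Commute (classAction hW t) y →
        ∀ x ∈ Q₁, (t : G) * x * (t : G)⁻¹ ∈ Q₁ := by
      intro t htc x hx
      obtain ⟨hxQ, hxm⟩ := hmem₁.1 hx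
      refine hmem₁.2 ⟨conj_mem t.2.1 hxQ, ?_⟩
      exact classAction_mk hW t ⟨x, hxQ⟩ ▸ map_moved htc hxm
    have hc : Commute θ y := Commute.self_pow θ _
    rw [mem_normalizer_iff]
    refine fun x => ⟨key ⟨s, hs⟩ hc x, fun h => ?_⟩
    have h2 := key ⟨s, hs⟩⁻¹ (by rw [map_inv]; exact hc.inv_left) _ h
    simpa [mul_assoc] using h2
  have hnorm : ∀ g : St, (g : G) ∈ normalizer (Q₁ : Set G) → g ∈ normalizer (Q₁' : Set St) := by
    intro g hg
    rw [mem_normalizer_iff] at hg ⊢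
    intro x
    simpa [hQ₁', mem_subgroupOf] using hg (x : G)
  -- an irreducible subspace of `U` for the moved part
  obtain ⟨U₁, -, hU₁⟩ := exists_irredSub (ρ := ρU) (Q := Q₁') (W := ⊤) top_ne_bot
    fun g _ v _ => Submodule.mem_top
  haveI := Fintype.ofFinite Q
  let q : Q → St := fun g => ⟨g, hQSt g g.2⟩
  have hqn : ∀ g : Q, q g ∈ normalizer (Q₁' : Set St) := fun g => hnorm _ (hQ₁n g g.2)
  set S := (Finset.univ : Finset Q).sup fun g => U₁.map (ρU (q g)) with hS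
  have hStop : S = ⊤ := by
    have hSinv : Invt ρ Q (S.map U.subtype) := by
      rintro g hg _ ⟨u, hu, rfl⟩
      refine ⟨ρU (q ⟨g, hg⟩) u, ?_, rfl⟩
      have : S ≤ S.comap (ρU (q ⟨g, hg⟩)) := Finset.sup_le fun i _ => by
        rw [← Submodule.map_le_iff_le_comap, map_map_mul]
        exact Finset.le_sup (f := fun g => U₁.map (ρU (q g))) (Finset.mem_univ (⟨g, hg⟩ * i))
      exact this hu
    rcases hU.2.2 _ (Submodule.map_subtype_le _ _) hSinv with h | h
    · refine absurd ?_ hU₁.1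
      rw [eq_bot_iff]
      refine le_trans (le_trans ?_ (Finset.le_sup (f := fun g => U₁.map (ρU (q g)))
        (Finset.mem_univ 1))) ?_
      · rw [show q 1 = 1 from rfl, map_one, Module.End.one_eq_id, Submodule.map_id]
      · intro u hu
        have : (u : V) ∈ S.map U.subtype := ⟨u, hu, rfl⟩
        rw [h, Submodule.mem_bot] at this
        exact Subtype.ext this
    · rw [eq_top_iff]
      intro u _
      have : (u : V) ∈ S.map U.subtype := h.symm ▸ u.2
      obtain ⟨u', hu', he⟩ := this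
      rwa [← Subtype.ext he]
  have hlink : ∀ g : Q, Linked ρU Q₁' U₁ (U₁.map (ρU (q g))) := by
    intro g
    obtain ⟨a, ha, b, hb, hab⟩ := exists_decomp hX hyp (g : Q ⧸ scalarSub hW.2.1)
    induction b using QuotientGroup.induction_on with
    | _ h =>
    have hgh : ((g * h⁻¹ : Q) : Q ⧸ scalarSub hW.2.1) ∈ moved (X := Q ⧸ scalarSub hW.2.1) y := by
      rw [QuotientGroup.mk_mul, QuotientGroup.mk_inv, hab, mul_inv_cancel_right]
      exact ha
    have hmem : q (g * h⁻¹) ∈ Q₁' := hmem₁.2 ⟨(g * h⁻¹).2, hgh⟩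
    have hlk : Linked ρU Q₁' U₁ (U₁.map (ρU (q h))) := by
      refine ⟨(ρU (q h)).comp U₁.subtype, fun h0 => hU₁.1 ?_, ?_, fun x hx w hw => ?_⟩
      · rw [eq_bot_iff]
        intro u hu
        have h1 := congrArg (ρU (q h)⁻¹) (LinearMap.congr_fun h0 ⟨u, hu⟩)
        simpa [apply_inv_apply] using h1
      · rintro _ ⟨u, rfl⟩
        exact Submodule.mem_map_of_mem u.2
      · obtain ⟨hxQ, hxm⟩ := hmem₁.1 hx
        have h1 := horth ⟨x, hxQ⟩ h hxm hb
        simp only [LinearMap.comp_apply, Submodule.subtype_apply]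
        rw [← Module.End.mul_apply, ← Module.End.mul_apply, ← map_mul, ← map_mul,
          show q h * x = (q h * x * (q h)⁻¹) * q h by group, map_mul,
          show ρU (q h * x * (q h)⁻¹) = ρU x from h1, ← map_mul]
    have e : U₁.map (ρU (q g)) = U₁.map (ρU (q h)) := by
      have hi : Invt ρU Q₁' (U₁.map (ρU (q h))) := (irredSub_map (hqn h) hU₁).2.1
      rw [show q g = q (g * h⁻¹) * q h from Subtype.ext (by simp [q]), ← map_map_mul]
      exact map_eq_self_of_irred (irredSub_map (hqn h) hU₁) (Subgroup.le_normalizer hmem)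
        fun u hu => hi _ hmem u hu
    rw [e]
    exact hlk
  set s' : St := ⟨s, hsSt⟩ with hs'
  have hs'n : s' ∈ normalizer (Q₁' : Set St) := hnorm _ hsQ₁
  obtain ⟨g₀, -, hg₀⟩ := exists_linked_of_le_sup (irredSub_map hs'n hU₁)
    (fun g => U₁.map (ρU (q g))) Finset.univ (fun g _ => irredSub_map (hqn g) hU₁)
    (by rw [← hS, hStop]; exact le_top)
  have hlk : Linked ρU Q₁' U₁ (U₁.map (ρU s')) :=
    Linked.trans hU₁ (irredSub_map (hqn g₀) hU₁) (hlink g₀)
      (hg₀.symm (irredSub_map hs'n hU₁) (irredSub_map (hqn g₀) hU₁))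
  obtain ⟨U₂, hU₂, -, hU₂s⟩ := exists_invariant_copy hU₁ hs'n hlk
  haveI : Nontrivial U₂ := Submodule.nontrivial_iff_ne_bot.2 hU₂.1
  set σ₂ := restrictRep hU₂.2.1 with hσ₂
  let emb : Q₁' → Q := fun g => ⟨((g : St) : G), (hmem₁.1 g.2).1⟩
  have hembm : ∀ g : Q₁', ((emb g : Q) : Q ⧸ scalarSub hW.2.1) ∈ moved (X := Q ⧸ scalarSub hW.2.1) y := fun g => (hmem₁.1 g.2).2
  let f₁ : Q₁' →* Q ⧸ scalarSub hW.2.1 :=
    (QuotientGroup.mk' (scalarSub hW.2.1)).comp (MonoidHom.mk' emb fun a b => rfl)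
  have hrange : f₁.range = moved (X := Q ⧸ scalarSub hW.2.1) y := by
    refine le_antisymm ?_ ?_
    · rintro _ ⟨g, rfl⟩; exact hembm g
    · intro x hx
      induction x using QuotientGroup.induction_on with
      | _ g => exact ⟨⟨q g, hmem₁.2 ⟨g.2, hx⟩⟩, rfl⟩
  have hsc₂ : ∀ g h : Q₁', ∃ c : K, σ₂ (h * g * h⁻¹) = c • σ₂ g := by
    intro g h
    have hdZ : emb h * emb g * (emb h)⁻¹ * (emb g)⁻¹ ∈ scalarSub hW.2.1 := by
      rw [← QuotientGroup.eq_one_iff]
      simp only [QuotientGroup.mk_mul, QuotientGroup.mk_inv]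
      rw [mul_comm (emb h : Q ⧸ scalarSub hW.2.1), mul_inv_cancel_right, mul_inv_cancel]
    obtain ⟨c, hc⟩ := hscU _ hdZ
    refine ⟨c, LinearMap.ext fun u => Subtype.ext (Subtype.ext ?_)⟩
    have h1 := hc _ (ρU (g : St) (u : U)).2
    show ρ ((h : St) * (g : St) * ((h : St))⁻¹ : G) ((u : U) : V) = c • ρ ((g : St) : G) ((u : U) : V)
    have h1' : ρ ((emb h * emb g * (emb h)⁻¹ * (emb g)⁻¹ : Q) : G) (ρ ((g : St) : G) ((u : U) : V)) =
        c • ρ ((g : St) : G) ((u : U) : V) := h1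
    rw [← Module.End.mul_apply, ← map_mul] at h1'
    refine Eq.trans ?_ h1'
    congr 2
    simp [emb, mul_assoc]
  have hfaith : ∀ g : Q₁', (∀ h : Q₁', σ₂ (h * g * h⁻¹) = σ₂ g) → f₁ g = 1 := by
    intro g hg
    show ((emb g : Q) : Q ⧸ scalarSub hW.2.1) = 1
    rw [QuotientGroup.eq_one_iff]
    suffices hcen : ∀ k : Q, σ (k * emb g * k⁻¹) = σ (emb g) by
      obtain ⟨c, hc⟩ := (isIrred_restrictRep hU).exists_scalar (σ (emb g)) fun k => by
        have h1 := hcen k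
        rw [map_mul] at h1
        have h2 := congrArg (fun f => f * σ k) h1
        simp only [mul_assoc, ← map_mul, inv_mul_cancel, mul_one] at h2
        rw [← map_mul, ← map_mul]
        exact h2.symm
      refine mem_scalarSub.2 ⟨c, scalar_of_linked hU hW (hWU.symm hW hU) (emb g).2 fun u hu => ?_⟩
      exact congrArg Subtype.val (LinearMap.congr_fun hc ⟨u, hu⟩)
    intro k
    obtain ⟨a, ha, b, hb, hab⟩ := exists_decomp hX hyp (k : Q ⧸ scalarSub hW.2.1)
    induction b using QuotientGroup.induction_on with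
    | _ h =>
    have hkh : ((k * h⁻¹ : Q) : Q ⧸ scalarSub hW.2.1) ∈ moved (X := Q ⧸ scalarSub hW.2.1) y := by
      rw [QuotientGroup.mk_mul, QuotientGroup.mk_inv, hab, mul_inv_cancel_right]
      exact ha
    set k₁ : Q₁' := ⟨q (k * h⁻¹), hmem₁.2 ⟨(k * h⁻¹).2, hkh⟩⟩ with hk₁
    have hdZ : (k * h⁻¹) * emb g * (k * h⁻¹)⁻¹ * (emb g)⁻¹ ∈ scalarSub hW.2.1 := by
      rw [← QuotientGroup.eq_one_iff]
      simp only [QuotientGroup.mk_mul, QuotientGroup.mk_inv]
      rw [mul_comm ((k : Q ⧸ scalarSub hW.2.1) * (h : Q ⧸ scalarSub hW.2.1)⁻¹), mul_inv_cancel_right, mul_inv_cancel]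
    obtain ⟨c, hc⟩ := hscU _ hdZ
    have e1 : σ ((k * h⁻¹) * emb g * (k * h⁻¹)⁻¹) = c • σ (emb g) := by
      rw [show (k * h⁻¹) * emb g * (k * h⁻¹)⁻¹ =
        (k * h⁻¹) * emb g * (k * h⁻¹)⁻¹ * (emb g)⁻¹ * emb g by group, map_mul]
      refine LinearMap.ext fun u => Subtype.ext ?_
      exact hc _ (σ (emb g) u).2
    have hc1 : c = 1 := by
      obtain ⟨u, hu⟩ := exists_ne (0 : U₂)
      have h1 := hg k₁
      have h2 : σ₂ (k₁ * g * k₁⁻¹) = c • σ₂ g := by
        refine LinearMap.ext fun w => Subtype.ext ?_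
        exact LinearMap.congr_fun e1 (w : U)
      rw [h1] at h2
      have h3 := congrArg (fun f => f * σ₂ g⁻¹) h2
      simp only [smul_mul_assoc, ← map_mul, mul_inv_cancel, map_one] at h3
      have h4 : (c - 1) • u = 0 := by
        have h5 : c • u = u := (LinearMap.congr_fun h3 u).symm
        apply Subtype.ext
        apply Subtype.ext
        show (c - 1) • (((u : U)) : V) = 0
        have h6 : c • (((u : U)) : V) = ((u : U) : V) := congrArg (fun x : U₂ => ((x : U) : V)) h5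
        rw [_root_.sub_smul, one_smul, h6, sub_self]
      exact sub_eq_zero.1 ((smul_eq_zero.1 h4).resolve_right hu)
    rw [hc1, one_smul] at e1
    calc σ (k * emb g * k⁻¹) = σ (k * h⁻¹ * (h * emb g * h⁻¹) * (k * h⁻¹)⁻¹) := by
          congr 1; group
      _ = σ (k * h⁻¹ * emb g * (k * h⁻¹)⁻¹) := by
          rw [map_mul, map_mul, horth _ h (hembm g) hb, ← map_mul, ← map_mul]
      _ = σ (emb g) := e1
  have hidx : f₁.ker.index = Nat.card (moved (X := Q ⧸ scalarSub hW.2.1) y) := by rw [Subgroup.index_ker, hrange]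
  have hQ₂ : (Nat.card Q₁' : K) ≠ 0 := by
    intro h
    apply hQ
    have hinj : Function.Injective (MonoidHom.mk' emb fun a b => rfl) := fun a b hab => by
      exact Subtype.ext (Subtype.ext (congrArg Subtype.val hab :))
    obtain ⟨k, hk⟩ := Subgroup.card_dvd_of_injective _ hinj
    rw [hk, Nat.cast_mul, h, zero_mul]
  set A : Module.End K U₂ := (ρU s').restrict hU₂s with hA
  have hApow : ∀ (k : ℕ) (u : U₂), (((A ^ k) u : U) : V) = ρ (s ^ k) ((u : U) : V) := by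
    intro k
    induction k with
    | zero => intro u; simp
    | succ k ih =>
      intro u
      rw [pow_succ, Module.End.mul_apply, ih, pow_succ, map_mul, Module.End.mul_apply]
      rfl
  set θ₂ : MulAut Q₁' := normalizerMonoidHom Q₁' ⟨s', hs'n⟩ with hθ₂
  have hθ₂app : ∀ (k : ℕ) (g : Q₁'), (((θ₂ ^ k) g : St) : G) = s ^ k * (g : St) * (s ^ k)⁻¹ := by
    intro k g
    rw [hθ₂, ← map_pow, normalizerMonoidHom_apply_apply_coe]
    simp [hs']
  have hAσ : ∀ g, A * σ₂ g = σ₂ (θ₂ g) * A := fun g => by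
    refine LinearMap.ext fun u => Subtype.ext (Subtype.ext ?_)
    show ρ s (ρ ((g : St) : G) ((u : U) : V)) = ρ ((θ₂ g : St) : G) (ρ s ((u : U) : V))
    have h1 := hθ₂app 1 g
    rw [pow_one, pow_one] at h1
    rw [h1, ← Module.End.mul_apply, ← Module.End.mul_apply, ← map_mul, ← map_mul,
      inv_mul_cancel_right]
  have hAN : A ^ p ^ m = 1 := by
    refine LinearMap.ext fun u => Subtype.ext (Subtype.ext ?_)
    rw [hApow, hsm, map_one]
    rfl
  have hθN : θ₂ ^ p ^ m = 1 := by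
    refine MulEquiv.ext fun g => Subtype.ext (Subtype.ext ?_)
    rw [hθ₂app, hsm, one_mul, inv_one, mul_one, MulAut.one_apply]
  have hfix : ∀ (k : ℕ) (g : Q₁'), (θ₂ ^ k) g = g → (θ ^ k) (f₁ g) = f₁ g := by
    intro k g hg
    show (θ ^ k) ((emb g : Q) : Q ⧸ scalarSub hW.2.1) = ((emb g : Q) : Q ⧸ scalarSub hW.2.1)
    rw [hθpow]
    congr 1
    apply Subtype.ext
    show s ^ k * ((g : St) : G) * (s ^ k)⁻¹ = ((g : St) : G)
    rw [← hθ₂app, hg]
  have hker : ∀ g : Q₁', f₁ g = 1 → ∃ c : K, σ₂ g = c • 1 := by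
    intro g hg
    obtain ⟨c, hc⟩ := hscU (emb g) ((QuotientGroup.eq_one_iff _).1 hg)
    exact ⟨c, LinearMap.ext fun u => Subtype.ext (Subtype.ext (hc _ (u : U).2))⟩
  have hfree : ∀ g, (∀ c : K, σ₂ g ≠ c • 1) → ∀ k, 0 < k → k < p ^ m → (θ₂ ^ k) g ≠ g := by
    intro g hg k hk hkm hfx
    have h1 : y (f₁ g) = f₁ g := moved_pow_eq_self_iff hm hθm hk hkm (hfix k g hfx)
    obtain ⟨c, hc⟩ := hker g (eq_one_of_moved_fixed hX hyp (hembm g) h1)
    exact hg c hc
  have hA1 : A ≠ 1 := by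
    intro h1
    apply hbot
    rw [eq_bot_iff]
    intro x hx
    rw [mem_bot]
    obtain ⟨g, rfl⟩ : x ∈ f₁.range := hrange ▸ hx
    refine eq_one_of_moved_fixed hX hyp hx ?_
    have h2 : ∀ h, σ₂ ((θ₂ ^ p ^ (m - 1)) h) = σ₂ h := fun h => by
      have := pow_mul_sigma hAσ (p ^ (m - 1)) h
      rwa [h1, one_pow, one_mul, mul_one, eq_comm] at this
    set d : Q₁' := (θ₂ ^ p ^ (m - 1)) g * g⁻¹ with hd
    have hd1 : σ₂ d = 1 := by
      rw [hd, map_mul, h2, ← map_mul, mul_inv_cancel, map_one]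
    have hd2 : f₁ d = 1 := hfaith d fun h => by
      rw [map_mul, map_mul, hd1, mul_one, ← map_mul, mul_inv_cancel, map_one]
    rw [hd, map_mul, map_inv, mul_inv_eq_one] at hd2
    refine Eq.trans ?_ hd2
    show y ((emb g : Q) : Q ⧸ scalarSub hW.2.1) =
      ((emb ((θ₂ ^ p ^ (m - 1)) g) : Q) : Q ⧸ scalarSub hW.2.1)
    rw [hy, hθpow]
    congr 1
    exact Subtype.ext (hθ₂app _ g).symm
  have htop : (A - 1) ^ (p ^ m - 1) = 0 := by
    refine LinearMap.ext fun u => Subtype.ext (Subtype.ext ?_)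
    have e : ∀ (i : ℕ) (u : U₂), ((((A - 1) ^ i) u : U) : V) = ((ρ s - 1) ^ i) ((u : U) : V) := by
      intro i
      induction i with
      | zero => intro u; simp
      | succ i ih =>
        intro u
        rw [pow_succ, Module.End.mul_apply, ih, pow_succ, Module.End.mul_apply]
        rfl
    rw [e, hnil _ (u : U).2]
    rfl
  have hdim := (critical (isIrred_restrictRep hU₂) hQ₂ hAσ hAN hθN hA1 hfree).2 htop
  have hle := index_le_sq σ₂ f₁.ker hfaith hsc₂
  rw [hidx, hdim] at hle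
  calc Nat.card (moved (X := Q ⧸ scalarSub hW.2.1) y) ≤ (p ^ m - 1) ^ 2 := hle
    _ < (p ^ m + 1) ^ 2 := Nat.pow_lt_pow_left (by omega) two_ne_zero

omit [IsAlgClosed K] [CharP K p] hp in
/-- An element of `Q` acting nontrivially does so on an irreducible subspace. -/
theorem exists_irredSub_moved (hQ : (Nat.card Q : K) ≠ 0) {c : G} (hc : c ∈ Q) (hc1 : ρ c ≠ 1) :
    ∃ W : Submodule K V, IrredSub ρ Q W ∧ ∃ w ∈ W, ρ c w ≠ w := by
  classical
  set N := Subgroup.closure {x | ∃ g ∈ Q, g * c * g⁻¹ = x} with hN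
  haveI := Fintype.ofFinite N
  have hNQ : N ≤ Q := (closure_le Q).2 (by
    rintro _ ⟨g, hg, rfl⟩
    exact mul_mem (mul_mem hg hc) (inv_mem hg))
  have hcN : c ∈ N := subset_closure ⟨1, one_mem _, by simp⟩
  have hconj : ∀ g ∈ Q, ∀ n ∈ N, g * n * g⁻¹ ∈ N := by
    intro g hg n hn
    have hle : N ≤ N.comap (MulAut.conj g).toMonoidHom := (closure_le _).2 (by
      rintro _ ⟨h, hh, rfl⟩
      refine subset_closure ⟨g * h, mul_mem hg hh, ?_⟩
      simp [mul_assoc])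
    exact hle hn
  set E : Module.End K V := ∑ n : N, ρ (n : G) with hE
  have hnE : ∀ n ∈ N, ρ n * E = E := by
    intro n hn
    rw [hE, Finset.mul_sum]
    exact Fintype.sum_equiv (Equiv.mulLeft (⟨n, hn⟩ : N)) _ _ fun x => by simp
  have hEn : ∀ g ∈ Q, ρ g * E = E * ρ g := by
    intro g hg
    rw [hE, Finset.mul_sum, Finset.sum_mul]
    let eqv : N ≃ N :=
      { toFun := fun x => ⟨g * x * g⁻¹, hconj g hg x x.2⟩
        invFun := fun x => ⟨g⁻¹ * x * g, by simpa using hconj g⁻¹ (inv_mem hg) x x.2⟩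
        left_inv := fun x => Subtype.ext (by simp [mul_assoc])
        right_inv := fun x => Subtype.ext (by simp [mul_assoc]) }
    refine Fintype.sum_equiv eqv _ _ fun x => ?_
    rw [← map_mul, ← map_mul]
    congr 1
    simp [eqv, mul_assoc]
  have hk : (Fintype.card N : K) ≠ 0 := by
    intro h
    apply hQ
    obtain ⟨k, hk⟩ := Subgroup.card_dvd_of_le hNQ
    rw [hk, Nat.card_eq_fintype_card, Nat.cast_mul, h, zero_mul]
  set P : Module.End K V := (Fintype.card N : K) • 1 - E with hP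
  have hEP : ∀ v, E (P v) = 0 := by
    intro v
    rw [hP, LinearMap.sub_apply, map_sub, LinearMap.smul_apply, Module.End.one_apply, map_smul,
      sub_eq_zero]
    have hEE : E * E = (Fintype.card N : K) • E := by
      nth_rw 1 [hE]
      rw [Finset.sum_mul, Finset.sum_congr rfl fun (n : N) _ => hnE n n.2,
        Finset.sum_const, Finset.card_univ, Nat.cast_smul_eq_nsmul]
    rw [← Module.End.mul_apply E E, hEE, LinearMap.smul_apply]
  have hP0 : LinearMap.range P ≠ ⊥ := by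
    intro h
    rw [LinearMap.range_eq_bot, hP, sub_eq_zero] at h
    have h1 := hnE c hcN
    rw [← h, mul_smul_comm, mul_one] at h1
    exact hc1 (smul_right_injective _ hk h1)
  obtain ⟨W, hWle, hW⟩ := exists_irredSub (ρ := ρ) (Q := Q) hP0 (by
    rintro g hg _ ⟨v, rfl⟩
    refine ⟨ρ g v, ?_⟩
    rw [hP, LinearMap.sub_apply, LinearMap.sub_apply, map_sub, LinearMap.smul_apply,
      LinearMap.smul_apply, Module.End.one_apply, Module.End.one_apply, map_smul,
      ← Module.End.mul_apply, ← hEn g hg, Module.End.mul_apply])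
  refine ⟨W, hW, ?_⟩
  by_contra hall
  push Not at hall
  obtain ⟨w, hw, hw0⟩ := (Submodule.ne_bot_iff W).1 hW.1
  apply hw0
  have hfix : ∀ n ∈ N, ∀ u ∈ W, ρ n u = u := by
    intro n hn
    induction hn using Subgroup.closure_induction with
    | mem x hx =>
      obtain ⟨g, hg, rfl⟩ := hx
      intro u hu
      rw [map_mul, map_mul, Module.End.mul_apply, Module.End.mul_apply,
        hall _ (hW.2.1 _ (inv_mem hg) u hu), apply_apply_inv]
    | one => intro u _; simp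
    | mul a b _ _ ha hb => intro u hu; rw [map_mul, Module.End.mul_apply, hb u hu, ha u hu]
    | inv a _ ha =>
      intro u hu
      conv_lhs => rw [← ha u hu]
      exact apply_inv_apply ρ a u
  have h1 : E w = (Fintype.card N : K) • w := by
    rw [hE, LinearMap.coe_sum, Finset.sum_apply,
      Finset.sum_congr rfl fun (n : N) _ => hfix n n.2 w hw, Finset.sum_const, Finset.card_univ,
      Nat.cast_smul_eq_nsmul]
  obtain ⟨v, rfl⟩ := hWle hw
  rw [hEP v] at h1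
  exact (smul_eq_zero.1 h1.symm).resolve_left hk

/-- Powers of elements without free cyclic summand commute. -/
theorem commute_pow (hp2 : p ≠ 2) (hρ : Function.Injective ρ) {O : Subgroup G} [O.Normal]
    (hO : (Nat.card O).Coprime p) (hCO : centralizer (O : Set G) ≤ O) {D : Subgroup G}
    (hD : IsPGroup p D) {e : ℕ} {t₁ t₂ : G} (h₁ : t₁ ∈ D) (h₂ : t₂ ∈ D)
    (ho₁ : t₁ ^ p ^ e = 1) (ho₂ : t₂ ^ p ^ e = 1) (hn₁ : (ρ t₁ - 1) ^ (p ^ e - 1) = 0)
    (hn₂ : (ρ t₂ - 1) ^ (p ^ e - 1) = 0) :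
    Commute (t₁ ^ p ^ (e - 1)) (t₂ ^ p ^ (e - 1)) := by
  classical
  have hp' := hp.out
  let T : Set G := {t | t ∈ D ∧ t ^ p ^ e = 1 ∧ (ρ t - 1) ^ (p ^ e - 1) = 0}
  set Y := Subgroup.closure ((fun t : G => t ^ p ^ (e - 1)) '' T) with hY
  have hYD : Y ≤ D := (closure_le D).2 (by
    rintro _ ⟨t, ht, rfl⟩
    exact pow_mem ht.1 _)
  suffices hcomm : ⁅Y, Y⁆ = ⊥ by
    have h := commutator_mem_commutator (H₁ := Y) (H₂ := Y)
      (subset_closure ⟨t₁, ⟨h₁, ho₁, hn₁⟩, rfl⟩) (subset_closure ⟨t₂, ⟨h₂, ho₂, hn₂⟩, rfl⟩)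
    rw [hcomm, mem_bot] at h
    exact commutatorElement_eq_one_iff_mul_comm.1 h
  by_contra hne
  have hDY : D ≤ normalizer (Y : Set G) := by
    refine Coprime.le_normalizer_of_conj_mem fun a ha x hx => ?_
    have hle : Y ≤ Y.comap (MulAut.conj a).toMonoidHom := (closure_le _).2 (by
      rintro _ ⟨t, ⟨ht, hto, htn⟩, rfl⟩
      refine subset_closure ⟨a * t * a⁻¹, ⟨mul_mem (mul_mem ha ht) (inv_mem ha), ?_, ?_⟩, ?_⟩
      · rw [conj_pow, hto, mul_one, mul_inv_cancel]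
      · have h : ∀ i : ℕ, (ρ (a * t * a⁻¹) - 1) ^ i = ρ a * (ρ t - 1) ^ i * ρ a⁻¹ := by
          intro i
          induction i with
          | zero => simp [← map_mul]
          | succ i ih =>
            rw [pow_succ, ih, pow_succ, show ρ (a * t * a⁻¹) - 1 = ρ a * (ρ t - 1) * ρ a⁻¹ by
              rw [mul_sub, sub_mul, mul_one, ← map_mul, ← map_mul, ← map_mul, mul_inv_cancel,
                map_one]]
            simp only [mul_assoc]
            rw [← mul_assoc (ρ a⁻¹) (ρ a), ← map_mul, inv_mul_cancel, map_one, one_mul]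
        rw [h, htn, mul_zero, zero_mul]
      · simp [conj_pow])
    exact hle hx
  -- a central element of `D` in the derived subgroup
  set M := ⁅Y, Y⁆ with hM
  have hMD : M ≤ D := (commutator_mono hYD hYD).trans (commutator_le.2 fun a ha b hb =>
    mul_mem (mul_mem (mul_mem ha hb) (inv_mem ha)) (inv_mem hb))
  haveI : (M.subgroupOf D).Normal := Subgroup.normal_subgroupOf_of_le_normalizer
    (Coprime.le_normalizer_commutator hDY hDY)
  obtain ⟨z, hzM, hzc, hz1⟩ := Lib.Critical.exists_center_mem hD (N := M.subgroupOf D)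
    (fun h => hne (disjoint_self.1 ((subgroupOf_eq_bot.1 h).mono_right hMD)))
  have hzcen : ∀ a ∈ D, a * (z : G) = z * a := fun a ha =>
    congrArg Subtype.val (mem_center_iff.1 hzc ⟨a, ha⟩)
  have hzO : ¬ O ≤ centralizer {(z : G)} := by
    intro h
    apply hz1
    apply Subtype.ext
    show (z : G) = 1
    have hzO : (z : G) ∈ O := hCO (mem_centralizer_iff.2 fun o ho =>
      mem_centralizer_singleton_iff.1 (h ho))
    obtain ⟨k, hk⟩ := hD z
    rw [← orderOf_eq_one_iff]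
    exact Nat.eq_one_of_dvd_coprimes (Nat.Coprime.pow_right k hO)
      (Subgroup.orderOf_dvd_natCard _ hzO)
      (orderOf_dvd_of_pow_eq_one (congrArg Subtype.val hk))
  obtain ⟨q, Q, hq, hqp, hQO, hQ, hDQ, hcls, g₀, hg₀, hgne⟩ := exists_classTwo
    (by rw [normalizer_eq_top_iff.mpr (inferInstance : O.Normal)]; exact le_top)
    hD z.2 hzcen hO hzO
  have hQne : (Nat.card Q : K) ≠ 0 := fun h => by
    have h1 := (CharP.cast_eq_zero_iff K p _).1 h
    exact (hp'.coprime_iff_not_dvd.1 hO.symm) (h1.trans (card_dvd_of_le hQO))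
  set c₀ := (z : G) * g₀ * (z : G)⁻¹ * g₀⁻¹ with hc₀
  have hzQ : (z : G) ∈ normalizer (Q : Set G) := hDQ z.2
  have hc₀Q : c₀ ∈ Q := mul_mem (conj_mem hzQ hg₀) (inv_mem hg₀)
  have hc₀1 : ρ c₀ ≠ 1 := fun h => hgne (by
    have h1 : c₀ = 1 := hρ (by rw [h, map_one])
    rwa [hc₀, mul_inv_eq_one] at h1)
  obtain ⟨W, hW, w, hw, hwne⟩ := exists_irredSub_moved hQne hc₀Q hc₀1
  letI := classCommGroup hW hcls
  have hX : ¬ p ∣ Nat.card (Q ⧸ scalarSub hW.2.1) := fun h =>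
    not_dvd_of_cast_ne_zero (p := p) hQne (h.trans (card_quotient_dvd_card _))
  set φ := classAction hW with hφ
  set D' := (D.subgroupOf (classStab ρ hW)).map φ with hD'
  have hD'p : IsPGroup p D' := (hD.comap_subtype (K := classStab ρ hW)).map φ
  have hper : ∀ t ∈ T, ∃ (a : ℕ) (hy : t ^ p ^ (e - 1) ∈ classStab ρ hW), a < e ∧
      ∃ hs : t ^ p ^ a ∈ classStab ρ hW, φ ⟨t ^ p ^ a, hs⟩ ∈ D' ∧
        (φ ⟨t ^ p ^ a, hs⟩) ^ p ^ (e - a) = 1 ∧
        φ ⟨_, hy⟩ = φ ⟨t ^ p ^ a, hs⟩ ^ p ^ (e - a - 1) ∧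
        Nat.card (moved (X := Q ⧸ scalarSub hW.2.1) (φ ⟨t ^ p ^ a, hs⟩ ^ p ^ (e - a - 1))) < (p ^ (e - a) + 1) ^ 2 := by
    rintro t ⟨htD, hto, htn⟩
    obtain ⟨a, U, hae, hU, hWU, hs, hsU, hnil⟩ := orbit hW (hDQ htD) hto htn
    have hsm : (t ^ p ^ a) ^ p ^ (e - a) = 1 := by
      rw [← pow_mul, ← pow_add, Nat.add_sub_cancel' hae.le, hto]
    have hyy : t ^ p ^ (e - 1) = (t ^ p ^ a) ^ p ^ (e - a - 1) := by
      rw [← pow_mul, ← pow_add]; congr 2; omega
    refine ⟨a, hyy ▸ pow_mem hs _, hae, hs, ⟨_, pow_mem htD _, rfl⟩, ?_, ?_,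
      moved_lt hQne hW hcls hs hU hWU hsU (by omega) hsm hnil⟩
    · rw [← map_pow]
      exact (congrArg φ (Subtype.ext hsm)).trans (map_one φ)
    · rw [← map_pow]
      exact congrArg φ (Subtype.ext hyy)
  have hYS : Y ≤ classStab ρ hW := (closure_le _).2 (by
    rintro _ ⟨t, ht, rfl⟩
    obtain ⟨_, hy, -⟩ := hper t ht
    exact hy)
  have hYc : ∀ a (ha : a ∈ Y) b (hb : b ∈ Y), Commute (φ ⟨a, hYS ha⟩) (φ ⟨b, hYS hb⟩) := by
    intro a ha b hb
    induction ha, hb using Subgroup.closure_induction₂ with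
    | mem x y hx hy =>
      obtain ⟨t, ht, rfl⟩ := hx
      obtain ⟨t', ht', rfl⟩ := hy
      obtain ⟨a, _, hae, hs, hmem, hsm, hyeq, hsmall⟩ := hper t ht
      obtain ⟨a', _, hae', hs', hmem', hsm', hyeq', hsmall'⟩ := hper t' ht'
      rw [hyeq, hyeq']
      exact commute_of_small hX hp2 D' hD'p hmem hmem' (by omega) (by omega) hsm hsm' hsmall hsmall'
    | one_left x hx => exact (map_one φ).symm ▸ Commute.one_left _
    | one_right x hx => exact (map_one φ).symm ▸ Commute.one_right _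
    | mul_left x y z hx hy hz h1 h2 =>
      have : φ ⟨x * y, hYS (mul_mem hx hy)⟩ = φ ⟨x, hYS hx⟩ * φ ⟨y, hYS hy⟩ := by
        rw [← map_mul]; rfl
      rw [this]; exact h1.mul_left h2
    | mul_right y z x hy hz hx h1 h2 =>
      have : φ ⟨y * z, hYS (mul_mem hy hz)⟩ = φ ⟨y, hYS hy⟩ * φ ⟨z, hYS hz⟩ := by
        rw [← map_mul]; rfl
      rw [this]; exact h1.mul_right h2
    | inv_left x y hx hy h =>
      have : φ ⟨x⁻¹, hYS (inv_mem hx)⟩ = (φ ⟨x, hYS hx⟩)⁻¹ := by rw [← map_inv]; rfl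
      rw [this]; exact h.inv_left
    | inv_right x y hx hy h =>
      have : φ ⟨y⁻¹, hYS (inv_mem hy)⟩ = (φ ⟨y, hYS hy⟩)⁻¹ := by rw [← map_inv]; rfl
      rw [this]; exact h.inv_right
  have hMk : M ≤ φ.ker.map (classStab ρ hW).subtype := commutator_le.2 fun a ha b hb => by
    refine ⟨⁅(⟨a, hYS ha⟩ : classStab ρ hW), ⟨b, hYS hb⟩⁆, ?_, rfl⟩
    rw [SetLike.mem_coe, MonoidHom.mem_ker, map_commutatorElement,
      commutatorElement_eq_one_iff_mul_comm]
    exact hYc a ha b hb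
  obtain ⟨zs, hzker, hzs⟩ := hMk (mem_subgroupOf.1 hzM)
  have hzS : (z : G) ∈ classStab ρ hW := by rw [← show (zs : G) = z from hzs]; exact zs.2
  have hzφ : φ ⟨z, hzS⟩ = 1 := by
    rw [show (⟨(z : G), hzS⟩ : classStab ρ hW) = zs from Subtype.ext hzs.symm]
    exact hzker
  -- `c₀` is a scalar on `W`
  have hcZ : (⟨c₀, hc₀Q⟩ : Q) ∈ scalarSub hW.2.1 := by
    rw [← QuotientGroup.eq_one_iff]
    have h := DFunLike.congr_fun hzφ ((⟨g₀, hg₀⟩ : Q) : Q ⧸ scalarSub hW.2.1)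
    rw [hφ, classAction_mk, MulAut.one_apply] at h
    rw [show (⟨c₀, hc₀Q⟩ : Q) = ⟨(z : G) * g₀ * (z : G)⁻¹, conj_mem hzQ hg₀⟩ * ⟨g₀, hg₀⟩⁻¹ from rfl,
      QuotientGroup.mk_mul, QuotientGroup.mk_inv, h, mul_inv_cancel]
  obtain ⟨c, hc⟩ := mem_scalarSub.1 hcZ
  have hiter : ∀ i : ℕ, ∀ u ∈ W,
      ρ ((z : G) ^ i * g₀ * ((z : G) ^ i)⁻¹) u = c ^ i • ρ g₀ u := by
    intro i
    induction i with
    | zero => intro u _; simp
    | succ i ih =>
      intro u hu
      have hsc := scalar_conj hW (pow_mem hzQ i) (mem_classStab.1 (pow_mem hzS i)).2 hc₀Q hc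
      have hmem : (z : G) ^ i * g₀ * ((z : G) ^ i)⁻¹ ∈ Q := conj_mem (pow_mem hzQ i) hg₀
      rw [show (z : G) ^ (i + 1) * g₀ * ((z : G) ^ (i + 1))⁻¹ =
          ((z : G) ^ i * c₀ * ((z : G) ^ i)⁻¹) * ((z : G) ^ i * g₀ * ((z : G) ^ i)⁻¹) by
        rw [hc₀, pow_succ]; group, map_mul, Module.End.mul_apply,
        hsc _ (hW.2.1 _ hmem u hu), ih u hu, smul_smul, ← pow_succ']
  obtain ⟨k, hk⟩ := hD z
  have hk' : (z : G) ^ p ^ k = 1 := congrArg Subtype.val hk
  have h1 := hiter (p ^ k) w hw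
  rw [hk', one_mul, inv_one, mul_one] at h1
  have hgw : ρ g₀ w ≠ 0 := fun h => hwne (by
    have hw0 : w = 0 := by simpa [apply_inv_apply] using congrArg (ρ g₀⁻¹) h
    rw [hw0, map_zero])
  have hck : c ^ p ^ k = 1 := by
    have h2 : (c ^ p ^ k - 1) • ρ g₀ w = 0 := by rw [sub_smul, one_smul, ← h1, sub_self]
    exact sub_eq_zero.1 ((smul_eq_zero.1 h2).resolve_right hgw)
  have hc1 : c = 1 := by
    have : (c - 1) ^ p ^ k = 0 := by rw [sub_pow_char_pow, hck, one_pow, sub_self]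
    exact sub_eq_zero.1 ((pow_eq_zero_iff (pow_ne_zero _ hp'.ne_zero)).1 this)
  exact hwne (by rw [hc w hw, hc1, one_smul])

end Cfsg.Agent.Lib.HallHigmanFermat
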