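import Cfsg.Agent.Lib.HallHigmanB.PLength
import Cfsg.Agent.Lib.HallHigmanFermat.Main

/-!
# Two layers lower the exponent
-/

set_option autoImplicit false

namespace Cfsg.Agent.Lib.HallHigmanFermat

open Subgroup Cfsg Cfsg.Agent.Lib.HallHigmanB
open Cfsg.Agent.Lib.PSolvable
open scoped IsMulCommutative TensorProduct

universe u

variable {p : ℕ} [hp : Fact p.Prime]

/-- An action on an elementary abelian group as a linear representation. -/
noncomputable def endRep {A : Type*} [CommGroup A] [Module (ZMod p) (Additive A)] {G₁ : Type*}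
    [Group G₁] (φ : G₁ →* MulAut A) : G₁ →* Module.End (ZMod p) (Additive A) where
  toFun x := AddMonoidHom.toZModLinearMap p
    { toFun := fun v => Additive.ofMul (φ x (Additive.toMul v))
      map_zero' := by simp
      map_add' := fun a b => by simp }
  map_one' := by
    refine LinearMap.ext fun v => ?_
    simp
  map_mul' a b := by
    refine LinearMap.ext fun v => ?_
    simp

theorem endRep_apply {A : Type*} [CommGroup A] [Module (ZMod p) (Additive A)] {G₁ : Type*}
    [Group G₁] (φ : G₁ →* MulAut A) (x : G₁) (a : A) :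
    endRep (p := p) φ x (Additive.ofMul a) = Additive.ofMul (φ x a) := rfl

theorem ker_endRep {A : Type*} [CommGroup A] [Module (ZMod p) (Additive A)] {G₁ : Type*}
    [Group G₁] (φ : G₁ →* MulAut A) : (endRep (p := p) φ).ker = φ.ker := by
  ext x
  rw [MonoidHom.mem_ker, MonoidHom.mem_ker]
  constructor
  · intro hx
    refine MulEquiv.ext fun a => ?_
    exact congrArg Additive.toMul (LinearMap.congr_fun hx (Additive.ofMul a))
  · intro hx
    refine LinearMap.ext fun v => ?_
    show Additive.ofMul (φ x (Additive.toMul v)) = v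
    rw [hx]
    rfl

theorem ker_conjNormal {G₁ : Type*} [Group G₁] {E : Subgroup G₁} [E.Normal]
    (hEc : ∀ a ∈ E, ∀ b ∈ E, a * b = b * a) (hCE : centralizer (E : Set G₁) ≤ E) :
    (MulAut.conjNormal : G₁ →* MulAut E).ker = E := by
  ext x
  rw [MonoidHom.mem_ker]
  constructor
  · intro hx
    refine hCE (mem_centralizer_iff.2 fun e he => ?_)
    have h := congrArg Subtype.val (DFunLike.congr_fun hx (⟨e, he⟩ : E))
    rw [MulAut.conjNormal_apply, MulAut.one_apply] at h
    exact (mul_inv_eq_iff_eq_mul.1 h).symm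
  · intro hx
    refine MulEquiv.ext fun e => Subtype.ext ?_
    rw [MulAut.conjNormal_apply, MulAut.one_apply, hEc x hx _ e.2, mul_inv_cancel_right]

/-- Elements with small exponent downstairs have no free cyclic module. -/
theorem sum_endRep {G₁ : Type*} [Group G₁] {E : Subgroup G₁} [E.Normal] [IsMulCommutative E]
    [Module (ZMod p) (Additive E)] (g : G₁) (N : ℕ) (a : E) :
    ((∑ i ∈ Finset.range N, endRep (p := p) (MulAut.conjNormal (H := E)) g ^ i)
        (Additive.ofMul a) : Additive E) =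
      Additive.ofMul (∏ i ∈ Finset.range N, MulAut.conjNormal (g ^ i) a) := by
  rw [LinearMap.coe_sum, Finset.sum_apply, ofMul_prod]
  refine Finset.sum_congr rfl fun i _ => ?_
  rw [← map_pow, endRep_apply]

theorem exponent_step {G : Type u} [Group G] [Finite G] (hp2 : p ≠ 2) (hG : IsPSolvable p G)
    (e : ℕ) (hexp : ∀ (P : Sylow p G), ∀ x ∈ (P : Subgroup G), x ^ p ^ (e + 1) = 1) :
    ∃ (H : Type u) (_ : Group H) (_ : Finite H), IsPSolvable p H ∧
      (∀ (P : Sylow p H), ∀ x ∈ (P : Subgroup H), x ^ p ^ e = 1) ∧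
      ∀ k, PLengthLE p k H → PLengthLE p (k + 2) G := by
  classical
  have hp' := hp.out
  obtain ⟨G₁, _, _, f, E, hL⟩ := exists_layer (p := p) hG
  haveI := hL.normal
  haveI : IsMulCommutative E := ⟨⟨fun a b => Subtype.ext (hL.comm a a.2 b b.2)⟩⟩
  set F := (QuotientGroup.mk' E).comp f with hF
  have hFs : Function.Surjective F := (QuotientGroup.mk'_surjective E).comp hL.surj
  have hH : IsPSolvable p (G₁ ⧸ E) := isPSolvable_quotient (isPSolvable_map hG f hL.surj) E
  obtain ⟨H₁, _, _, f₂, E₂, hL₂⟩ := exists_layer (p := p) hH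
  haveI := hL₂.normal
  haveI : IsMulCommutative E₂ := ⟨⟨fun a b => Subtype.ext (hL₂.comm a a.2 b b.2)⟩⟩
  have hH₁ : IsPSolvable p H₁ := isPSolvable_map hH f₂ hL₂.surj
  set F₂ := (QuotientGroup.mk' E₂).comp f₂ with hF₂
  have hF₂s : Function.Surjective F₂ := (QuotientGroup.mk'_surjective E₂).comp hL₂.surj
  refine ⟨H₁ ⧸ E₂, inferInstance, inferInstance, isPSolvable_quotient hH₁ E₂, ?_, fun k hk =>
    pLengthLE_succ_of_map hFs hL.ker_eq (pLengthLE_succ_of_map hF₂s hL₂.ker_eq hk)⟩
  intro U x hx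
  obtain ⟨T₁, rfl⟩ := Sylow.mapSurjective_surjective hF₂s p U
  obtain ⟨S, rfl⟩ := Sylow.mapSurjective_surjective hFs p T₁
  set T := S.mapSurjective hFs with hT
  have hTexp : ∀ t ∈ (T : Subgroup (G₁ ⧸ E)), t ^ p ^ (e + 1) = 1 := by
    intro t ht
    rw [Sylow.coe_mapSurjective] at ht
    obtain ⟨g, hg, rfl⟩ := ht
    rw [← map_pow, hexp S g hg, map_one]
  rw [Sylow.coe_mapSurjective] at hx
  obtain ⟨t₁, ht₁, rfl⟩ := hx
  have hdvd : orderOf (F₂ t₁) ∣ p ^ (e + 1) := orderOf_dvd_of_pow_eq_one (by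
    rw [← map_pow, hTexp t₁ ht₁, map_one])
  obtain ⟨n, hn, hord⟩ := (Nat.dvd_prime_pow hp').1 hdvd
  rw [← orderOf_dvd_iff_pow_eq_one, hord]
  apply pow_dvd_pow
  by_contra hne
  obtain rfl : n = e + 1 := by omega
  -- the module of the second layer
  haveI : Module (ZMod p) (Additive E₂) := AddCommGroup.zmodModule fun v => by
    apply Additive.toMul.injective
    rw [toMul_nsmul, toMul_zero]
    exact Subtype.ext (hL₂.pow _ (Additive.toMul v).2)
  haveI : FiniteDimensional (ZMod p) (Additive E₂) := Module.Finite.of_finite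
  set φ₂ : H₁ →* Module.End (ZMod p) (Additive E₂) := endRep MulAut.conjNormal with hφ₂
  have hker₂ : E₂ = φ₂.ker := by rw [hφ₂, ker_endRep, ker_conjNormal hL₂.comm hL₂.centralizer_le]
  set ρ₂ : H₁ ⧸ E₂ →* Module.End (ZMod p) (Additive E₂) := QuotientGroup.lift E₂ φ₂ hker₂.le with hρ₂
  have hρ₂inj : Function.Injective ρ₂ := by
    rw [injective_iff_map_eq_one]
    intro z hz
    obtain ⟨z, rfl⟩ := QuotientGroup.mk_surjective z
    rw [QuotientGroup.eq_one_iff, hker₂, MonoidHom.mem_ker]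
    exact hz
  set h₁ := f₂ t₁ with hh₁
  obtain ⟨v, hv⟩ : ∃ v, ((φ₂ h₁ - 1) ^ (p ^ e + (p ^ e - 1))) v ≠ 0 := by
    refine not_forall.1 fun hall => ?_
    have hz : (ρ₂ (h₁ : H₁ ⧸ E₂) - 1) ^ (p ^ e + (p ^ e - 1)) = 0 := LinearMap.ext hall
    have hpe := Nat.one_le_pow e p hp'.pos
    have h3 : 3 * p ^ e ≤ p ^ (e + 1) := by
      rw [pow_succ']
      exact Nat.mul_le_mul (by have := hp'.two_le; omega) le_rfl
    rcases bound_linear (isPSolvable_quotient hH₁ E₂) hL₂.pCore_eq_bot ρ₂ hρ₂inj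
      (Nat.le_add_left 1 e) hord hz with hb | ⟨a, m, q, b, ham, hm, -, -, -, hb, -⟩
    · omega
    · have h4 : p ^ a ≤ p ^ e := Nat.pow_le_pow_right hp'.pos (by omega)
      rw [Nat.mul_sub, mul_one, ← pow_add, ham] at hb
      omega
  set a : E₂ := Additive.toMul v with ha
  have haT : (a : H₁) ∈ (T : Subgroup (G₁ ⧸ E)).map f₂ := by
    have := hL₂.le_sylow (T.mapSurjective hL₂.surj) a.2
    rwa [Sylow.coe_mapSurjective] at this
  obtain ⟨a', ha', haa⟩ := haT
  -- the module of the first layer over an algebraically closed field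
  haveI : Module (ZMod p) (Additive E) := AddCommGroup.zmodModule fun v => by
    apply Additive.toMul.injective
    rw [toMul_nsmul, toMul_zero]
    exact Subtype.ext (hL.pow _ (Additive.toMul v).2)
  haveI : FiniteDimensional (ZMod p) (Additive E) := Module.Finite.of_finite
  set φ₁ : G₁ →* Module.End (ZMod p) (Additive E) := endRep MulAut.conjNormal with hφ₁
  have hker₁ : E = φ₁.ker := by rw [hφ₁, ker_endRep, ker_conjNormal hL.comm hL.centralizer_le]
  set ρ₁ : G₁ ⧸ E →* Module.End (ZMod p) (Additive E) := QuotientGroup.lift E φ₁ hker₁.le with hρ₁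
  have hρ₁inj : Function.Injective ρ₁ := by
    rw [injective_iff_map_eq_one]
    intro z hz
    obtain ⟨z, rfl⟩ := QuotientGroup.mk_surjective z
    rw [QuotientGroup.eq_one_iff, hker₁, MonoidHom.mem_ker]
    exact hz
  let K := AlgebraicClosure (ZMod p)
  haveI : CharP K p := charP_of_injective_algebraMap (algebraMap (ZMod p) K).injective p
  let β : Module.End (ZMod p) (Additive E) →ₐ[ZMod p] Module.End K (K ⊗[ZMod p] Additive E) :=
    Module.End.baseChangeHom (ZMod p) K (Additive E)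
  have hβ : Function.Injective β := LinearMap.baseChangeHom_injective (ZMod p) (Additive E) K
  let ρ : G₁ ⧸ E →* Module.End K (K ⊗[ZMod p] Additive E) := β.toRingHom.toMonoidHom.comp ρ₁
  have hnil : ∀ t ∈ (T : Subgroup (G₁ ⧸ E)), (ρ t - 1) ^ (p ^ (e + 1) - 1) = 0 := by
    intro t ht
    rw [hT, Sylow.coe_mapSurjective] at ht
    obtain ⟨s, hs, rfl⟩ := ht
    have hmem : ∀ y ∈ ((S.mapSurjective hL.surj : Sylow p G₁) : Subgroup G₁),
        y ^ p ^ (e + 1) = 1 := by
      intro y hy
      rw [Sylow.coe_mapSurjective] at hy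
      obtain ⟨z, hz, rfl⟩ := hy
      rw [← map_pow, hexp S z hz, map_one]
    have hs' : f s ∈ ((S.mapSurjective hL.surj : Sylow p G₁) : Subgroup G₁) := by
      rw [Sylow.coe_mapSurjective]; exact mem_map_of_mem f hs
    have h1 : (φ₁ (f s) - 1) ^ (p ^ (e + 1) - 1) = 0 := by
      refine LinearMap.ext fun w => ?_
      rw [sub_one_pow_pPow_sub_one, ← ofMul_toMul w, hφ₁, sum_endRep, LinearMap.zero_apply]
      apply Additive.toMul.injective
      rw [toMul_zero, toMul_ofMul]
      apply Subtype.ext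
      have h := mul_pow_eq hL.comm (Additive.toMul w) (f s) (p ^ (e + 1))
      rw [hmem _ hs', mul_one, hmem _ (mul_mem (hL.le_sylow _ (Additive.toMul w).2) hs')] at h
      exact h.symm
    show (β (φ₁ (f s)) - 1) ^ (p ^ (e + 1) - 1) = 0
    have h2 := congrArg β h1
    simpa [map_pow, map_sub, map_one] using h2
  have hcomm := commute_pow (ρ := ρ) hp2 (fun a b h => hρ₁inj (hβ h))
    (O := pPrimeCore p (G₁ ⧸ E)) (pPrimeCore_coprime)
    (centralizer_pPrimeCore_le_of_isPSolvable hH hL.pCore_eq_bot)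
    T.2 ht₁ (mul_mem ha' ht₁) (hTexp _ ht₁) (hTexp _ (mul_mem ha' ht₁)) (hnil _ ht₁)
    (hnil _ (mul_mem ha' ht₁))
  rw [Nat.add_sub_cancel] at hcomm
  have hc := hcomm.map f₂
  rw [map_pow, map_pow, map_mul, haa, ← hh₁, mul_pow_eq hL₂.comm a h₁ (p ^ e)] at hc
  set w : E₂ := ∏ i ∈ Finset.range (p ^ e), MulAut.conjNormal (h₁ ^ i) a with hw
  have hfix : MulAut.conjNormal (h₁ ^ p ^ e) w = w := by
    apply Subtype.ext
    rw [MulAut.conjNormal_apply, mul_inv_eq_iff_eq_mul]
    have h := hc.eq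
    rw [← mul_assoc] at h
    exact mul_right_cancel h
  apply hv
  rw [pow_add, Module.End.mul_apply, sub_one_pow_pPow, sub_one_pow_pPow_sub_one,
    ← ofMul_toMul v, ← ha, hφ₂, sum_endRep, ← hw, LinearMap.sub_apply, Module.End.one_apply,
    ← map_pow, endRep_apply, hfix, sub_self]

theorem pLengthLE_two_mul (hp2 : p ≠ 2) : ∀ (e : ℕ) {G : Type u} [Group G] [Finite G],
    IsPSolvable p G → (∀ (P : Sylow p G), ∀ x ∈ (P : Subgroup G), x ^ p ^ e = 1) →
      PLengthLE p (2 * e) G := by
  intro e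
  induction e with
  | zero =>
    intro G _ _ _ hexp
    refine pLengthLE_zero_of_coprime ?_
    obtain ⟨P⟩ : Nonempty (Sylow p G) := inferInstance
    have hP : (P : Subgroup G) = ⊥ := by
      rw [eq_bot_iff]
      intro x hx
      simpa using hexp P x hx
    have h2 : ¬ p ∣ Nat.card G := by
      have h3 := P.not_dvd_index
      rwa [hP, index_bot] at h3
    exact ((Fact.out : p.Prime).coprime_iff_not_dvd.mpr h2).symm
  | succ e ih =>
    intro G _ _ hG hexp
    obtain ⟨H, _, _, hH, hHexp, hlift⟩ := exponent_step hp2 hG e hexp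
    exact hlift _ (ih hH hHexp)

end Cfsg.Agent.Lib.HallHigmanFermat
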