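import Mathlib
import Cfsg.Agent.Lib.PGroup.Critical

/-!
# Commuting automorphisms with small moved parts

An automorphism of order `p` which is a power of an automorphism `s` of order `p ^ m`, and which
moves fewer than `(p ^ m + 1) ^ 2` elements of an abelian `p'`-group, centralises every abelian
subgroup normalised by `s` and itself inside a `p`-group of automorphisms.
-/

set_option autoImplicit false

namespace Cfsg.Agent.Lib.HallHigmanFermat

open Subgroup
open scoped commutatorElement

section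

variable {X : Type*} [CommGroup X]

/-- `x ↦ y x / x`. -/
def movedHom (y : MulAut X) : X →* X where
  toFun x := y x / x
  map_one' := by simp
  map_mul' a b := by simp only [map_mul]; exact mul_div_mul_comm _ _ _ _

/-- The part of `X` moved by `y`. -/
def moved (y : MulAut X) : Subgroup X := (movedHom y).range

theorem map_moved {y s : MulAut X} (h : Commute s y) {x : X} (hx : x ∈ moved y) :
    s x ∈ moved y := by
  obtain ⟨u, rfl⟩ := hx
  refine ⟨s u, ?_⟩
  show y (s u) / s u = s (y u / u)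
  rw [map_div, ← MulAut.mul_apply, ← MulAut.mul_apply, h.eq]

variable [Finite X] {p : ℕ} [hp : Fact p.Prime]

theorem eq_one_of_pow_prime_eq_one (hX : ¬ p ∣ Nat.card X) {x : X} (hx : x ^ p = 1) : x = 1 := by
  rw [← orderOf_eq_one_iff]
  refine ((Nat.dvd_prime hp.out).1 (orderOf_dvd_of_pow_eq_one hx)).resolve_right fun h => hX ?_
  exact h ▸ orderOf_dvd_natCard x

omit [Finite X] hp in
theorem pow_apply_fix {y : MulAut X} {x : X} (h : y x = x) (i : ℕ) : (y ^ i) x = x := by
  induction i with
  | zero => simp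
  | succ i ih => rw [pow_succ, MulAut.mul_apply, h, ih]

omit [Finite X] hp in
/-- The norm is fixed. -/
theorem norm_fixed {y : MulAut X} (hy : y ^ p = 1) (x : X) :
    y (∏ i ∈ Finset.range p, (y ^ i) x) = ∏ i ∈ Finset.range p, (y ^ i) x := by
  rw [map_prod]
  have h : ∀ i, y ((y ^ i) x) = (y ^ (i + 1)) x := fun i => by
    rw [pow_succ', MulAut.mul_apply]
  simp only [h]
  have h1 := Finset.prod_range_succ (fun i => (y ^ i) x) p
  have h2 := Finset.prod_range_succ' (fun i => (y ^ i) x) p
  simp only [hy, pow_zero, MulAut.one_apply] at h1 h2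
  exact mul_right_cancel (h2.symm.trans h1)

theorem eq_one_of_moved_fixed (hX : ¬ p ∣ Nat.card X) {y : MulAut X} (hy : y ^ p = 1) {x : X}
    (hx : x ∈ moved y) (hfix : y x = x) : x = 1 := by
  obtain ⟨u, rfl⟩ := hx
  apply eq_one_of_pow_prime_eq_one hX
  have h : ∀ i : ℕ, (y ^ i) u = (movedHom y u) ^ i * u := by
    intro i
    induction i with
    | zero => simp
    | succ i ih =>
      rw [pow_succ' y, MulAut.mul_apply, ih, map_mul, map_pow, hfix, pow_succ, mul_assoc]
      congr 1
      show y u = y u / u * u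
      rw [div_mul_cancel]
  have h2 := h p
  rw [hy, MulAut.one_apply] at h2
  exact right_eq_mul.1 h2

/-- `X` is generated by the moved part and the fixed part. -/
theorem exists_decomp (hX : ¬ p ∣ Nat.card X) {y : MulAut X} (hy : y ^ p = 1) (x : X) :
    ∃ a ∈ moved y, ∃ b : X, y b = b ∧ x = a * b := by
  let F : Subgroup X := (y : X →* X).eqLocus (MonoidHom.id X)
  suffices h : x ∈ moved y ⊔ F by
    obtain ⟨a, ha, b, hb, hab⟩ := Subgroup.mem_sup.1 h
    exact ⟨a, ha, b, hb, hab.symm⟩
  have hN : ∏ i ∈ Finset.range p, (y ^ i) x ∈ F := norm_fixed hy x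
  have hd : ∀ i : ℕ, (y ^ i) x / x ∈ moved y := by
    intro i
    induction i with
    | zero => simp [one_mem]
    | succ i ih =>
      rw [pow_succ', MulAut.mul_apply,
        ← div_mul_div_cancel (y ((y ^ i) x)) ((y ^ i) x) x]
      exact mul_mem ⟨(y ^ i) x, rfl⟩ ih
  have hp' : x ^ p ∈ moved y ⊔ F := by
    have e : x ^ p = (∏ i ∈ Finset.range p, (y ^ i) x / x)⁻¹ *
        ∏ i ∈ Finset.range p, (y ^ i) x := by
      rw [Finset.prod_div_distrib, Finset.prod_const, Finset.card_range, inv_div, div_mul_cancel]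
    rw [e]
    exact mul_mem (Subgroup.mem_sup_left (inv_mem (prod_mem fun i _ => hd i)))
      (Subgroup.mem_sup_right hN)
  have hc : (orderOf x).Coprime p := by
    rw [Nat.coprime_comm, hp.out.coprime_iff_not_dvd]
    exact fun h => hX (h.trans (orderOf_dvd_natCard x))
  obtain ⟨k, hk⟩ := exists_pow_eq_self_of_coprime hc.symm
  rw [← hk]
  exact pow_mem hp' k

theorem moved_pow_eq_self_iff {s : MulAut X} {m : ℕ} (hm : 1 ≤ m) (hs : s ^ p ^ m = 1) {x : X}
    {d : ℕ} (hd : 0 < d) (hdm : d < p ^ m) (hfix : (s ^ d) x = x) :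
    (s ^ p ^ (m - 1)) x = x := by
  have hit : ∀ (k : ℕ), (s ^ k) x = (⇑s)^[k] x := by
    intro k
    induction k with
    | zero => simp
    | succ k ih =>
      rw [pow_succ', MulAut.mul_apply, ih, Function.iterate_succ_apply']
  have h1 : Function.IsPeriodicPt s (p ^ m) x := by
    show (⇑s)^[p ^ m] x = x
    rw [← hit, hs, MulAut.one_apply]
  have h2 : Function.IsPeriodicPt s d x := by
    show (⇑s)^[d] x = x
    rw [← hit, hfix]
  have h3 := h1.gcd h2
  obtain ⟨b, hb, hgb⟩ := (Nat.dvd_prime_pow hp.out).1 (Nat.gcd_dvd_left (p ^ m) d)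
  have hbm : b ≠ m := by
    rintro rfl
    have := Nat.le_of_dvd hd (hgb ▸ Nat.gcd_dvd_right (p ^ b) d)
    omega
  rw [hgb] at h3
  rw [hit]
  exact h3.trans_dvd (pow_dvd_pow p (by omega))

/-- A nontrivial `s`-invariant subgroup without fixed points of `s ^ p ^ (m - 1)` is big. -/
theorem succ_le_card {s : MulAut X} {m : ℕ} (hm : 1 ≤ m) (hs : s ^ p ^ m = 1) (K : Subgroup X)
    (hK : ∀ x ∈ K, s x ∈ K) (hfree : ∀ x ∈ K, (s ^ p ^ (m - 1)) x = x → x = 1) (hne : K ≠ ⊥) :
    p ^ m + 1 ≤ Nat.card K := by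
  classical
  obtain ⟨x, hx, hx1⟩ : ∃ x ∈ K, x ≠ 1 := by
    by_contra h
    push Not at h
    exact hne (by rw [eq_bot_iff]; intro z hz; exact mem_bot.2 (h z hz))
  have hmem : ∀ i : ℕ, (s ^ i) x ∈ K := by
    intro i
    induction i with
    | zero => simpa using hx
    | succ i ih => rw [pow_succ', MulAut.mul_apply]; exact hK _ ih
  have key : ∀ i j, i < j → j < p ^ m → (s ^ i) x ≠ (s ^ j) x := by
    intro i j hij hj h
    apply hx1
    refine hfree x hx (moved_pow_eq_self_iff hm hs (d := j - i) (by omega) (by omega) ?_)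
    apply (s ^ i).injective
    rw [← MulAut.mul_apply, ← pow_add, Nat.add_sub_cancel' hij.le, ← h]
  let f : Option (Fin (p ^ m)) → K := fun o => match o with
    | none => 1
    | some i => ⟨(s ^ (i : ℕ)) x, hmem i⟩
  have hf : Function.Injective f := by
    rintro (_ | i) (_ | j) h
    · rfl
    · exfalso
      exact hx1 ((EmbeddingLike.map_eq_one_iff (f := s ^ (j : ℕ))).1 (congrArg Subtype.val h).symm)
    · exfalso
      exact hx1 ((EmbeddingLike.map_eq_one_iff (f := s ^ (i : ℕ))).1 (congrArg Subtype.val h))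
    · congr 1
      apply Fin.ext
      rcases lt_trichotomy (i : ℕ) j with hlt | he | hlt
      · exact absurd (congrArg Subtype.val h) (key _ _ hlt j.2)
      · exact he
      · exact absurd (congrArg Subtype.val h).symm (key _ _ hlt i.2)
  simpa using Nat.card_le_card_of_injective f hf

/-- The counting heart: `y` centralises `a` if it moves little. -/
theorem false_of_two_eigen (hX : ¬ p ∣ Nat.card X) (hp2 : p ≠ 2) {s a v : MulAut X} {m : ℕ}
    (hm : 1 ≤ m) (hs : s ^ p ^ m = 1) (hv : v ≠ 1)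
    (hvy : Commute v (s ^ p ^ (m - 1))) (hva : Commute v a) (hvs : Commute v s)
    (hya : s ^ p ^ (m - 1) * a = v * a * s ^ p ^ (m - 1))
    (hsmall : Nat.card (moved (s ^ p ^ (m - 1))) < (p ^ m + 1) ^ 2) : False := by
  classical
  set y := s ^ p ^ (m - 1) with hy
  have hp' := hp.out
  have hyp : y ^ p = 1 := by
    rw [hy, ← pow_mul, ← pow_succ, Nat.sub_add_cancel hm, hs]
  -- `v ^ p = 1`
  have hconj : ∀ k : ℕ, y ^ k * a = v ^ k * a * y ^ k := by
    intro k
    induction k with
    | zero => simp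
    | succ k ih =>
      rw [pow_succ' y, mul_assoc, ih, ← mul_assoc, ← mul_assoc, (hvy.pow_left k).symm.eq,
        mul_assoc (v ^ k), hya, pow_succ v]
      simp only [mul_assoc]
  have hvp : v ^ p = 1 := by
    have h := hconj p
    rw [hyp, one_mul, mul_one] at h
    exact mul_eq_right.1 h.symm
  -- eigenspaces
  let E : ℕ → Subgroup X := fun k => ((y * v ^ k : MulAut X) : X →* X).eqLocus (MonoidHom.id X)
  have hEmem : ∀ k x, x ∈ E k ↔ y ((v ^ k) x) = x := fun k x => Iff.rfl
  let K : ℕ → Subgroup X := fun k => moved v ⊓ E k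
  have hcp : ∀ k : ℕ, (y * v ^ k) ^ p = 1 := fun k => by
    rw [((hvy.pow_left k).symm).mul_pow, hyp, ← pow_mul, mul_comm k, pow_mul, hvp, one_pow, one_mul]
  -- some eigenspace is not trivial
  obtain ⟨k₀, hk₀⟩ : ∃ k, K k ≠ ⊥ := by
    by_contra hall
    push Not at hall
    apply hv
    refine MulEquiv.ext fun x₀ => ?_
    rw [MulAut.one_apply]
    let M : ℕ → X := fun k => ∏ i ∈ Finset.range p, ((y * v ^ k) ^ i) x₀
    have hM : ∀ k, v (M k) = M k := by
      intro k
      have h1 : v (M k) / M k ∈ K k := by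
        refine ⟨⟨M k, rfl⟩, ?_⟩
        show (y * v ^ k) (v (M k) / M k) = v (M k) / M k
        rw [map_div, show (y * v ^ k) (M k) = M k from norm_fixed (hcp k) x₀,
          ← MulAut.mul_apply, (hvy.symm.mul_left ((Commute.refl v).pow_left k)).eq,
          MulAut.mul_apply, show (y * v ^ k) (M k) = M k from norm_fixed (hcp k) x₀]
      rw [hall k, mem_bot, div_eq_one] at h1
      exact h1
    have hprod : v (∏ k ∈ Finset.range p, M k) = ∏ k ∈ Finset.range p, M k := by
      rw [map_prod]
      exact Finset.prod_congr rfl fun k _ => hM k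
    obtain ⟨p', hp'e⟩ : ∃ p', p = p' + 1 := ⟨p - 1, by have := hp'.two_le; omega⟩
    have hexp : ∏ k ∈ Finset.range p, M k =
        (∏ i ∈ Finset.range p', ∏ k ∈ Finset.range p, (y ^ (i + 1)) ((v ^ (k * (i + 1))) x₀)) *
          x₀ ^ p := by
      have e : ∀ k i : ℕ, ((y * v ^ k) ^ i) x₀ = (y ^ i) ((v ^ (k * i)) x₀) := fun k i => by
        rw [((hvy.pow_left k).symm).mul_pow, MulAut.mul_apply, ← pow_mul v]
      simp only [M, e]
      rw [Finset.prod_comm, hp'e, Finset.prod_range_succ']
      simp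
    have hrest : v (∏ i ∈ Finset.range p',
        ∏ k ∈ Finset.range p, (y ^ (i + 1)) ((v ^ (k * (i + 1))) x₀)) =
        ∏ i ∈ Finset.range p', ∏ k ∈ Finset.range p, (y ^ (i + 1)) ((v ^ (k * (i + 1))) x₀) := by
      rw [map_prod]
      refine Finset.prod_congr rfl fun i hi => ?_
      simp only [← map_prod]
      rw [← MulAut.mul_apply, (hvy.pow_right (i + 1)).eq, MulAut.mul_apply]
      congr 1
      set w := v ^ (i + 1) with hw
      have hwk : ∀ k, (v ^ (k * (i + 1))) x₀ = (w ^ k) x₀ := fun k => by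
        rw [hw, ← pow_mul, mul_comm]
      simp only [hwk]
      have hwp : w ^ p = 1 := by rw [hw, ← pow_mul, mul_comm, pow_mul, hvp, one_pow]
      have hwfix := norm_fixed hwp x₀
      -- `v` is a power of `w`
      have hc : Nat.Coprime (i + 1) (orderOf v) := by
        refine Nat.Coprime.coprime_dvd_right (orderOf_dvd_of_pow_eq_one hvp) ?_
        rw [Nat.coprime_comm, hp'.coprime_iff_not_dvd]
        intro hdiv
        have := Nat.le_of_dvd (by omega) hdiv
        have := Finset.mem_range.1 hi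
        omega
      obtain ⟨j, hj⟩ := exists_pow_eq_self_of_coprime hc
      rw [← hw] at hj
      exact hj ▸ pow_apply_fix hwfix j
    rw [hexp, map_mul, hrest, mul_right_inj, map_pow] at hprod
    have h2 : (v x₀ / x₀) ^ p = 1 := by rw [div_pow, hprod, div_self']
    exact div_eq_one.1 (eq_one_of_pow_prime_eq_one hX h2)
  -- `a` shifts the eigenspaces
  have hshift : ∀ k, K (k + 1) ≠ ⊥ → K k ≠ ⊥ := by
    intro k hk hk'
    apply hk
    rw [eq_bot_iff]
    rintro x ⟨hx1, hx2⟩
    have hxa : a x ∈ K k := by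
      refine ⟨map_moved hva.symm hx1, ?_⟩
      show (y * v ^ k) (a x) = a x
      have hid : y * v ^ k * a = a * (y * v ^ (k + 1)) := by
        calc y * v ^ k * a = y * a * v ^ k := by
              rw [mul_assoc, (hva.pow_left k).eq, ← mul_assoc]
          _ = v * a * y * v ^ k := by rw [hya]
          _ = a * (v * y) * v ^ k := by rw [hva.eq, mul_assoc a v y]
          _ = a * (y * v ^ (k + 1)) := by
              rw [hvy.eq, pow_succ', mul_assoc, mul_assoc]
      rw [← MulAut.mul_apply, hid, MulAut.mul_apply]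
      exact congrArg a hx2
    rw [hk', mem_bot, EmbeddingLike.map_eq_one_iff] at hxa
    exact mem_bot.2 hxa
  have hper : ∀ k, K (k + p) = K k := fun k => by
    simp only [K, E]
    rw [pow_add, hvp, mul_one]
  have hall : ∀ k, k ≤ k₀ + 2 * p → (k = k₀ + 2 * p ∨ K k ≠ ⊥) := by
    intro k hk
    rcases Nat.eq_or_lt_of_le hk with h | h
    · exact Or.inl h
    right
    have hdown : ∀ d, d ≤ k₀ + 2 * p → K (k₀ + 2 * p - d) ≠ ⊥ := by
      intro d
      induction d with
      | zero =>
        intro _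
        rw [Nat.sub_zero, two_mul, ← add_assoc, hper, hper]
        exact hk₀
      | succ d ih =>
        intro hd
        apply hshift
        rw [show k₀ + 2 * p - (d + 1) + 1 = k₀ + 2 * p - d by omega]
        exact ih (by omega)
    have := hdown (k₀ + 2 * p - k) (by omega)
    rwa [show k₀ + 2 * p - (k₀ + 2 * p - k) = k by omega] at this
  have hp3 : 3 ≤ p := by have := hp'.two_le; omega
  have h1 : K 1 ≠ ⊥ := (hall 1 (by omega)).resolve_left (by omega)
  have h2 : K 2 ≠ ⊥ := (hall 2 (by omega)).resolve_left (by omega)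
  -- facts about `K k`
  have hsy : Commute s y := Commute.self_pow s _
  have hKs : ∀ k, ∀ x ∈ K k, s x ∈ K k := by
    rintro k x ⟨hx1, hx2⟩
    refine ⟨map_moved hvs.symm hx1, ?_⟩
    show (y * v ^ k) (s x) = s x
    rw [← MulAut.mul_apply, (hsy.mul_right (hvs.symm.pow_right k)).symm.eq, MulAut.mul_apply]
    exact congrArg s hx2
  have hfree : ∀ k, k = 1 ∨ k = 2 → ∀ x ∈ K k, y x = x → x = 1 := by
    rintro k hk x ⟨hx1, hx2⟩ hyx
    refine eq_one_of_moved_fixed hX hvp hx1 ?_
    have hx3 : y ((v ^ k) x) = y x := ((hEmem k x).1 hx2).trans hyx.symm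
    have hx4 : (v ^ k) x = x := y.injective hx3
    have hc : Nat.Coprime k (orderOf v) := by
      refine Nat.Coprime.coprime_dvd_right (orderOf_dvd_of_pow_eq_one hvp) ?_
      rw [Nat.coprime_comm, hp'.coprime_iff_not_dvd]
      intro hdiv
      have := Nat.le_of_dvd (by omega) hdiv
      omega
    obtain ⟨j, hj⟩ := exists_pow_eq_self_of_coprime hc
    exact hj ▸ pow_apply_fix hx4 j
  have hle : ∀ k, k = 1 ∨ k = 2 → K k ≤ moved y := by
    intro k hk x hx
    have hyK : ∀ z ∈ K k, y z ∈ K k := by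
      intro z hz
      have : ∀ i : ℕ, (s ^ i) z ∈ K k := by
        intro i
        induction i with
        | zero => simpa using hz
        | succ i ih => rw [pow_succ', MulAut.mul_apply]; exact hKs k _ ih
      exact this _
    let f : K k → K k := fun z => ⟨y z / z, div_mem (hyK _ z.2) z.2⟩
    have hf : Function.Injective f := by
      intro z w h
      have h' : y (z : X) / z = y (w : X) / w := congrArg Subtype.val h
      have h3 : y ((z : X) / w) = (z : X) / w := by
        rw [map_div, div_eq_div_iff_div_eq_div]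
        exact h'
      exact Subtype.ext (div_eq_one.1 (hfree k hk _ (div_mem z.2 w.2) h3))
    obtain ⟨z, hz⟩ := (Finite.injective_iff_surjective.1 hf) ⟨x, hx⟩
    exact ⟨(z : X), congrArg Subtype.val hz⟩
  have hc1 := succ_le_card hm hs (K 1) (hKs 1) (hfree 1 (Or.inl rfl)) h1
  have hc2 := succ_le_card hm hs (K 2) (hKs 2) (hfree 2 (Or.inr rfl)) h2
  let F : K 1 × K 2 → moved y := fun z =>
    ⟨(z.1 : X) * z.2, mul_mem (hle 1 (Or.inl rfl) z.1.2) (hle 2 (Or.inr rfl) z.2.2)⟩
  have hF : Function.Injective F := by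
    rintro ⟨a₁, b₁⟩ ⟨a₂, b₂⟩ h
    have h' : (a₁ : X) * b₁ = (a₂ : X) * b₂ := congrArg Subtype.val h
    have hd : (a₁ : X) / a₂ = (b₂ : X) / b₁ := by
      rw [div_eq_div_iff_mul_eq_mul, h', mul_comm]
    have hone : (a₁ : X) / a₂ = 1 := by
      have e1 : (a₁ : X) / a₂ ∈ K 1 := div_mem a₁.2 a₂.2
      have e2 : (a₁ : X) / a₂ ∈ K 2 := hd ▸ div_mem b₂.2 b₁.2
      refine eq_one_of_moved_fixed hX hvp e1.1 ?_
      have e3 := ((hEmem 1 _).1 e1.2).trans ((hEmem 2 _).1 e2.2).symm
      have e4 := y.injective e3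
      rw [pow_one, pow_two, MulAut.mul_apply] at e4
      exact (v.injective e4).symm
    refine Prod.ext (Subtype.ext (div_eq_one.1 hone)) (Subtype.ext ?_)
    rw [hd] at hone
    exact (div_eq_one.1 hone).symm
  have hcard := Nat.card_le_card_of_injective F hF
  rw [Nat.card_prod] at hcard
  have := Nat.mul_le_mul hc1 hc2
  rw [pow_two] at hsmall
  omega

/-- `y` centralises abelian normalised subgroups. -/
theorem commute_abelian (hX : ¬ p ∣ Nat.card X) (hp2 : p ≠ 2) {D : Type*} [Group D] [Finite D]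
    (hD : IsPGroup p D) (φ : D →* MulAut X) (hφ : Function.Injective φ) (B : Subgroup D) [B.Normal]
    (hB : ∀ a ∈ B, ∀ b ∈ B, a * b = b * a) {s : D} {m : ℕ} (hm : 1 ≤ m) (hs : s ^ p ^ m = 1)
    (hsmall : Nat.card (moved (φ (s ^ p ^ (m - 1)))) < (p ^ m + 1) ^ 2) {b : D} (hb : b ∈ B) :
    s ^ p ^ (m - 1) * b = b * s ^ p ^ (m - 1) := by
  classical
  set y := s ^ p ^ (m - 1) with hy
  by_contra hne
  have hconjB : ∀ (g : D) {c : D}, c ∈ B → g * c * g⁻¹ ∈ B := fun g c hc =>
    Subgroup.Normal.conj_mem inferInstance c hc g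
  have hmemB : ∀ (g : D) {c : D}, c ∈ B → ⁅g, c⁆ ∈ B := fun g c hc =>
    mul_mem (hconjB g hc) (inv_mem hc)
  -- the last step of the chain of commutators with `y`
  let f : ℕ → D := fun i => (fun c => ⁅y, c⁆)^[i] b
  have hfB : ∀ i, f i ∈ B := by
    intro i
    induction i with
    | zero => exact hb
    | succ i ih => simp only [f, Function.iterate_succ_apply']; exact hmemB y ih
  haveI := hD.isNilpotent
  have hfl : ∀ i, f i ∈ (⊤ : Subgroup D).lowerCentralSeries i := by
    intro i
    induction i with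
    | zero => simp
    | succ i ih =>
      simp only [f, Function.iterate_succ_apply']
      rw [Subgroup.lowerCentralSeries_succ, commutator_comm]
      exact commutator_mem_commutator (mem_top y) ih
  obtain ⟨N, hN⟩ := Subgroup.nilpotent_iff_lowerCentralSeries.1 (inferInstance : Group.IsNilpotent D)
  have hN1 : f N = 1 := by simpa [hN] using hfl N
  have hex : ∃ i, ⁅y, f i⁆ = 1 := ⟨N, by rw [hN1]; exact commutatorElement_one_right y⟩
  obtain ⟨i₀, hi₀⟩ : ∃ i, Nat.find hex = i + 1 := by
    refine ⟨Nat.find hex - 1, ?_⟩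
    have : Nat.find hex ≠ 0 := fun h => hne (by
      have h1 := Nat.find_spec hex
      rw [h] at h1
      exact commutatorElement_eq_one_iff_mul_comm.1 h1)
    omega
  have hlast : ⁅y, f (i₀ + 1)⁆ = 1 := hi₀ ▸ Nat.find_spec hex
  have hnot : ¬ ⁅y, f i₀⁆ = 1 := Nat.find_min hex (by omega)
  -- the subgroup of commutators fixed by `y`
  let R : Subgroup D :=
    { carrier := {v | ∃ c ∈ B, ⁅y, c⁆ = v ∧ ⁅y, v⁆ = 1}
      one_mem' := ⟨1, one_mem B, commutatorElement_one_right y, commutatorElement_one_right y⟩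
      mul_mem' := by
        rintro v w ⟨c, hc, rfl, hcv⟩ ⟨d, hd, rfl, hdw⟩
        refine ⟨c * d, mul_mem hc hd, ?_, ?_⟩
        · rw [commutatorElement_def, commutatorElement_def, commutatorElement_def]
          have e := hB _ (inv_mem hc) _ (hmemB y hd)
          rw [commutatorElement_def] at e
          calc y * (c * d) * y⁻¹ * (c * d)⁻¹ = y * c * y⁻¹ * (y * d * y⁻¹ * d⁻¹ * c⁻¹) := by group
            _ = y * c * y⁻¹ * (c⁻¹ * (y * d * y⁻¹ * d⁻¹)) := by rw [e]
            _ = _ := by group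
        · rw [commutatorElement_eq_one_iff_mul_comm] at hcv hdw ⊢
          exact (Commute.mul_right hcv hdw).eq
      inv_mem' := by
        rintro v ⟨c, hc, rfl, hcv⟩
        refine ⟨c⁻¹, inv_mem hc, ?_, ?_⟩
        · rw [commutatorElement_def, commutatorElement_def]
          have e := hB _ (hconjB y (inv_mem hc)) _ hc
          rw [inv_inv, e]
          group
        · rw [commutatorElement_eq_one_iff_mul_comm] at hcv ⊢
          exact (Commute.inv_right hcv).eq }
  have hRB : R ≤ B := by rintro v ⟨c, hc, rfl, -⟩; exact hmemB y hc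
  have hR0 : R ≠ ⊥ := fun h => hnot (mem_bot.1 (h ▸ (show ⁅y, f i₀⁆ ∈ R from
    ⟨f i₀, hfB i₀, rfl, by simpa [f, Function.iterate_succ_apply'] using hlast⟩)))
  have hsy : Commute s y := Commute.self_pow s _
  have hsy' : s * y * s⁻¹ = y := mul_inv_eq_iff_eq_mul.2 hsy.eq
  have hkey : ∀ x : D, s * ⁅y, x⁆ * s⁻¹ = ⁅y, s * x * s⁻¹⁆ := fun x => by
    rw [← MulAut.conj_apply, map_commutatorElement, MulAut.conj_apply, MulAut.conj_apply, hsy']
  have hRs : ∀ v ∈ R, s * v * s⁻¹ ∈ R := by
    rintro v ⟨c, hc, rfl, hcv⟩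
    refine ⟨s * c * s⁻¹, hconjB s hc, ?_, ?_⟩
    · exact (hkey c).symm
    · rw [← hkey, hcv, mul_one, mul_inv_cancel]
  -- `s` fixes a nontrivial element of `R`
  set L := R ⊔ zpowers s with hL
  have hsn : s ∈ normalizer (R : Set D) := by
    rw [mem_normalizer_iff]
    intro v
    refine ⟨hRs v, fun hv => ?_⟩
    have hit : ∀ i : ℕ, s ^ i * (s * v * s⁻¹) * (s ^ i)⁻¹ ∈ R := by
      intro i
      induction i with
      | zero => simpa using hv
      | succ i ih =>
        have := hRs _ ih
        rw [pow_succ', mul_inv_rev]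
        simpa [mul_assoc] using this
    have := hit (p ^ m - 1)
    have hpos : 1 ≤ p ^ m := Nat.one_le_pow _ _ hp.out.pos
    have e : s ^ (p ^ m - 1) = s⁻¹ :=
      eq_inv_of_mul_eq_one_left (by rw [← pow_succ, Nat.sub_add_cancel hpos, hs])
    rw [e] at this
    simpa [mul_assoc] using this
  haveI : (R.subgroupOf L).Normal :=
    Subgroup.normal_subgroupOf_of_le_normalizer (sup_le Subgroup.le_normalizer (zpowers_le.2 hsn))
  obtain ⟨z, hzR, hzc, hz1⟩ := Lib.Critical.exists_center_mem (hD.to_subgroup L)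
    (N := R.subgroupOf L) (fun h => hR0 (by
      have := subgroupOf_eq_bot.1 h
      exact (disjoint_self.1 (this.mono_right (le_sup_left : R ≤ L)))))
  obtain ⟨c, hc, hcz, hzy⟩ := mem_subgroupOf.1 hzR
  have hzs : (z : D) * s = s * z :=
    (congrArg Subtype.val (mem_center_iff.1 hzc ⟨s, mem_sup_right (mem_zpowers s)⟩)).symm
  have hzc' : (z : D) * c = c * z := hB _ (hRB (mem_subgroupOf.1 hzR)) _ hc
  refine false_of_two_eigen (X := X) hX hp2 (s := φ s) (a := φ c) (v := φ (z : D)) hm
    (by rw [← map_pow, hs, map_one]) (fun h => hz1 (Subtype.ext (hφ (by rw [h]; simp)))) ?_ ?_ ?_ ?_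
    (by rwa [← map_pow])
  · rw [← map_pow]
    exact (Commute.map (show Commute (z : D) y from
      (commutatorElement_eq_one_iff_mul_comm.1 hzy).symm) φ)
  · exact Commute.map hzc' φ
  · exact Commute.map hzs φ
  · rw [← map_pow, ← map_mul, ← map_mul, ← map_mul]
    congr 1
    show y * c = z * c * y
    rw [← hcz, commutatorElement_def]
    group

/-- Elements of small motion commute. -/
theorem commute_of_small (hX : ¬ p ∣ Nat.card X) (hp2 : p ≠ 2) (D : Subgroup (MulAut X))
    (hD : IsPGroup p D) {s s' : MulAut X} (hsD : s ∈ D) (hsD' : s' ∈ D) {m m' : ℕ} (hm : 1 ≤ m)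
    (hm' : 1 ≤ m') (hs : s ^ p ^ m = 1) (hs' : s' ^ p ^ m' = 1)
    (h1 : Nat.card (moved (s ^ p ^ (m - 1))) < (p ^ m + 1) ^ 2)
    (h2 : Nat.card (moved (s' ^ p ^ (m' - 1))) < (p ^ m' + 1) ^ 2) :
    Commute (s ^ p ^ (m - 1)) (s' ^ p ^ (m' - 1)) := by
  haveI : Finite (MulAut X) := Finite.of_injective (fun f : MulAut X => (f : X → X))
    DFunLike.coe_injective
  obtain ⟨B, hBn, hB⟩ := Lib.Critical.exists_maximal_normal_abelian hD
  haveI := hBn
  have hBc : ∀ a ∈ B, ∀ b ∈ B, a * b = b * a := by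
    intro a ha b hb
    rw [← hB] at ha
    exact (mem_centralizer_iff.1 ha b hb).symm
  have key : ∀ (t : D) (k : ℕ), 1 ≤ k → t ^ p ^ k = 1 →
      Nat.card (moved ((t : MulAut X) ^ p ^ (k - 1))) < (p ^ k + 1) ^ 2 → t ^ p ^ (k - 1) ∈ B := by
    intro t k hk ht hsmall
    rw [← hB, mem_centralizer_iff]
    intro b hb
    exact (commute_abelian hX hp2 hD D.subtype D.subtype_injective B hBc hk ht
      (by simpa using hsmall) hb).symm
  have e1 := key ⟨s, hsD⟩ m hm (Subtype.ext (by simpa using hs)) h1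
  have e2 := key ⟨s', hsD'⟩ m' hm' (Subtype.ext (by simpa using hs')) h2
  have := congrArg Subtype.val (hBc _ e1 _ e2)
  simp at this
  exact this

end

end Cfsg.Agent.Lib.HallHigmanFermat
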