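import Cfsg.Agent.Lib.HallHigmanB.Main
import Cfsg.Agent.Lib.HallHigmanFermat.Count

/-!
# The moved part on a component
-/

set_option autoImplicit false

namespace Cfsg.Agent.Lib.HallHigmanFermat

open Module Subgroup Cfsg.Agent.Lib.HallHigmanB
open scoped commutatorElement

/-- Elements distinguished by the scalars of their commutators are linearly independent. -/
theorem index_le_sq {K U Q : Type*} [Field K] [AddCommGroup U] [Module K U] [FiniteDimensional K U]
    [Nontrivial U] [Group Q] [Finite Q] (σ : Q →* Module.End K U) (Z : Subgroup Q)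
    (hZ : ∀ g, (∀ h, σ (h * g * h⁻¹) = σ g) → g ∈ Z)
    (hsc : ∀ g h, ∃ c : K, σ (h * g * h⁻¹) = c • σ g) :
    Z.index ≤ finrank K U ^ 2 := by
  classical
  obtain ⟨v, hv⟩ := exists_ne (0 : U)
  have hne : ∀ g, σ g ≠ 0 := fun g h => hv (by
    have h1 := LinearMap.congr_fun (map_mul σ g⁻¹ g) v
    rw [inv_mul_cancel, map_one, h, mul_zero] at h1
    simpa using h1)
  choose c hc using hsc
  have huniq : ∀ g, ∀ {a b : K}, a • σ g = b • σ g → a = b := by
    intro g a b h
    rw [← sub_eq_zero, ← sub_smul, smul_eq_zero] at h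
    exact sub_eq_zero.1 (h.resolve_right (hne g))
  have hmul : ∀ g h₁ h₂, c g (h₁ * h₂) = c g h₁ * c g h₂ := by
    intro g h₁ h₂
    apply huniq g
    rw [← hc, show h₁ * h₂ * g * (h₁ * h₂)⁻¹ = h₁ * (h₂ * g * h₂⁻¹) * h₁⁻¹ by group, map_mul,
      map_mul, hc g h₂, mul_smul_comm, smul_mul_assoc, ← map_mul, ← map_mul, hc, smul_smul]
    congr 1
    ring
  have hone : ∀ g, c g 1 = 1 := fun g => huniq g (by rw [← hc]; simp)
  let χ : Q → (Q →* K) := fun g =>
    { toFun := c g, map_one' := hone g, map_mul' := hmul g }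
  let r : Q ⧸ Z → Q := Quotient.out
  have hinj : Function.Injective fun x => χ (r x) := by
    intro a b hab
    have h1 : ∀ h, c (r a) h = c (r b) h := fun h => DFunLike.congr_fun hab h
    rw [← QuotientGroup.out_eq' a, ← QuotientGroup.out_eq' b]
    refine QuotientGroup.eq.2 (hZ _ fun h => ?_)
    show σ (h * ((r a)⁻¹ * r b) * h⁻¹) = σ ((r a)⁻¹ * r b)
    rw [show h * ((r a)⁻¹ * r b) * h⁻¹ = (h * (r a)⁻¹ * h⁻¹) * (h * r b * h⁻¹) by group, map_mul,
      hc (r b) h, ← h1 h, mul_smul_comm, ← smul_mul_assoc]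
    rw [map_mul σ (r a)⁻¹ (r b)]
    congr 1
    have h2 : σ (h * (r a)⁻¹ * h⁻¹) * σ (h * r a * h⁻¹) = 1 := by
      rw [← map_mul, show h * (r a)⁻¹ * h⁻¹ * (h * r a * h⁻¹) = 1 by group, map_one]
    rw [hc (r a) h, mul_smul_comm] at h2
    have h3 := congrArg (fun f => f * σ (r a)⁻¹) h2
    rw [smul_mul_assoc, mul_assoc, ← map_mul σ (r a) (r a)⁻¹, mul_inv_cancel, map_one, mul_one,
      one_mul] at h3
    exact h3
  have hli : LinearIndependent K fun x => σ (r x) := by
    haveI := Fintype.ofFinite (Q ⧸ Z)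
    rw [Fintype.linearIndependent_iff]
    intro a ha
    have hh : ∀ h : Q, ∑ x, (a x * c (r x) h) • σ (r x) = 0 := by
      intro h
      have h1 := congrArg (fun f => σ h * f * σ h⁻¹) ha
      simp only [Finset.mul_sum, Finset.sum_mul, mul_smul_comm, smul_mul_assoc, mul_zero,
        zero_mul, ← map_mul] at h1
      refine Eq.trans (Finset.sum_congr rfl fun x _ => ?_) h1
      rw [hc, smul_smul]
    intro x
    by_contra hax
    obtain ⟨w, hw⟩ : ∃ w, σ (r x) w ≠ 0 :=
      not_forall.1 fun h => hne (r x) (LinearMap.ext h)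
    obtain ⟨φ, hφ⟩ := Module.Projective.exists_dual_ne_zero K hw
    have hind := Fintype.linearIndependent_iff.1
      ((linearIndependent_monoidHom Q K).comp _ hinj) (fun x => a x * φ (σ (r x) w))
    refine mul_ne_zero hax hφ (hind (funext fun h => ?_) x)
    have h2 := congrArg (fun f : Module.End K U => φ (f w)) (hh h)
    simp only [LinearMap.coe_sum, Finset.sum_apply, LinearMap.smul_apply, map_sum, map_smul,
      smul_eq_mul, LinearMap.zero_apply, map_zero] at h2
    rw [Finset.sum_apply, Pi.zero_apply]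
    refine Eq.trans (Finset.sum_congr rfl fun x _ => ?_) h2
    show a x * φ (σ (r x) w) * c (r x) h = a x * c (r x) h * φ (σ (r x) w)
    ring
  haveI := Fintype.ofFinite (Q ⧸ Z)
  have h := hli.fintype_card_le_finrank
  rwa [Module.finrank_linearMap, ← Nat.card_eq_fintype_card, ← pow_two] at h

section

variable {K V G : Type*} [Field K] [AddCommGroup V] [Module K V] [Group G]
variable {ρ : G →* Module.End K V} {Q : Subgroup G} {W : Submodule K V}

/-- The elements of `Q` acting on `W` as scalars. -/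
def scalarSub (hW : Invt ρ Q W) : Subgroup Q where
  carrier := {g | ∃ c : K, restrictRep hW g = c • 1}
  one_mem' := ⟨1, by rw [map_one, one_smul]⟩
  mul_mem' := by
    rintro a b ⟨c, hc⟩ ⟨d, hd⟩
    exact ⟨c * d, by rw [map_mul, hc, hd, smul_mul_smul_comm, one_mul]⟩
  inv_mem' := by
    rintro a ⟨c, hc⟩
    by_cases h0 : c = 0
    · refine ⟨0, ?_⟩
      rw [zero_smul]
      have h1 := map_mul (restrictRep hW) a⁻¹ a
      rw [inv_mul_cancel, map_one, hc, h0, zero_smul, mul_zero] at h1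
      rw [← mul_one (restrictRep hW a⁻¹), h1, mul_zero]
    · refine ⟨c⁻¹, ?_⟩
      have h1 := map_mul (restrictRep hW) a a⁻¹
      rw [mul_inv_cancel, map_one, hc, smul_mul_assoc, one_mul] at h1
      rw [h1, smul_smul, inv_mul_cancel₀ h0, one_smul]

theorem mem_scalarSub {hW : Invt ρ Q W} {g : Q} :
    g ∈ scalarSub hW ↔ ∃ c : K, ∀ w ∈ W, ρ g w = c • w := by
  constructor
  · rintro ⟨c, hc⟩
    exact ⟨c, fun w hw => congrArg Subtype.val (LinearMap.congr_fun hc ⟨w, hw⟩)⟩
  · rintro ⟨c, hc⟩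
    exact ⟨c, LinearMap.ext fun w => Subtype.ext (hc w w.2)⟩

instance scalarSub_normal (hW : Invt ρ Q W) : (scalarSub hW).Normal :=
  ⟨fun n ⟨c, hc⟩ g => ⟨c, by
    rw [map_mul, map_mul, hc, mul_smul_comm, mul_one, smul_mul_assoc, ← map_mul, mul_inv_cancel,
      map_one]⟩⟩

/-- Scalars pass to linked subspaces. -/
theorem scalar_of_linked {W' : Submodule K V} (hW : IrredSub ρ Q W) (hW' : IrredSub ρ Q W')
    (h : Linked ρ Q W W') {g : G} (hg : g ∈ Q) {c : K} (hc : ∀ w ∈ W, ρ g w = c • w) :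
    ∀ w ∈ W', ρ g w = c • w := by
  obtain ⟨f, hf0, hfr, hf⟩ := h
  have hne : LinearMap.range f ≠ ⊥ := fun h => hf0 (LinearMap.range_eq_bot.1 h)
  have hr : LinearMap.range f = W' :=
    (hW'.2.2 _ hfr (invt_range hW.2.1 f hf)).resolve_left hne
  intro w hw
  rw [← hr] at hw
  obtain ⟨u, rfl⟩ := hw
  rw [← hf g hg u (hW.2.1 g hg u u.2), ← map_smul]
  congr 1
  exact Subtype.ext (hc u u.2)

/-- The scalar of an element is unchanged by conjugation with a stabiliser of the class. -/
theorem scalar_conj {t : G} (hW : IrredSub ρ Q W) (ht : t ∈ normalizer (Q : Set G))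
    (h : Linked ρ Q W (W.map (ρ t))) {g : G} (hg : g ∈ Q) {c : K}
    (hc : ∀ w ∈ W, ρ g w = c • w) : ∀ w ∈ W, ρ (t * g * t⁻¹) w = c • w := by
  obtain ⟨f, hf0, hfr, hf⟩ := h
  intro w hw
  have hg' : t * g * t⁻¹ ∈ Q := conj_mem ht hg
  have h1 := hf _ hg' ⟨w, hw⟩ (hW.2.1 _ hg' w hw)
  obtain ⟨u, hu, hfu⟩ := hfr ⟨⟨w, hw⟩, rfl⟩
  have h2 : ρ (t * g * t⁻¹) (f ⟨w, hw⟩) = c • f ⟨w, hw⟩ := by
    rw [← hfu, ← Module.End.mul_apply, ← map_mul, inv_mul_cancel_right, map_mul,
      Module.End.mul_apply, hc u hu, map_smul]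
  rw [h2, ← map_smul] at h1
  exact congrArg Subtype.val (injective_of_intertwine hW f hf0 hf h1)

variable (ρ) in
/-- The stabiliser of the isomorphism class of `W`. -/
def classStab [FiniteDimensional K V] (hW : IrredSub ρ Q W) : Subgroup G where
  carrier := {t | t ∈ normalizer (Q : Set G) ∧ Linked ρ Q W (W.map (ρ t))}
  one_mem' := ⟨one_mem _, by
    rw [map_one, Module.End.one_eq_id, Submodule.map_id]; exact Linked.refl hW⟩
  mul_mem' := by
    rintro a b ⟨ha, hla⟩ ⟨hb, hlb⟩
    refine ⟨mul_mem ha hb, Linked.trans hW (irredSub_map ha hW) hla ?_⟩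
    have := hlb.map ha hW.2.1
    rwa [map_map_mul] at this
  inv_mem' := by
    rintro a ⟨ha, hla⟩
    refine ⟨inv_mem ha, ?_⟩
    have := hla.map (inv_mem ha) hW.2.1
    rw [map_map_mul, inv_mul_cancel, map_one, Module.End.one_eq_id, Submodule.map_id] at this
    exact this.symm (irredSub_map (inv_mem ha) hW) hW

variable [FiniteDimensional K V]

theorem mem_classStab {hW : IrredSub ρ Q W} {t : G} :
    t ∈ classStab ρ hW ↔ t ∈ normalizer (Q : Set G) ∧ Linked ρ Q W (W.map (ρ t)) := Iff.rfl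

theorem scalarSub_conj (hW : IrredSub ρ Q W) (t : classStab ρ hW) :
    (scalarSub hW.2.1).map
      ((normalizerMonoidHom Q ⟨(t : G), t.2.1⟩ : MulAut Q) : Q →* Q) ≤ scalarSub hW.2.1 := by
  rintro _ ⟨g, hg, rfl⟩
  obtain ⟨c, hc⟩ := mem_scalarSub.1 hg
  exact mem_scalarSub.2 ⟨c, scalar_conj hW t.2.1 t.2.2 g.2 hc⟩

/-- Conjugation on the quotient by the scalars. -/
noncomputable def classHom (hW : IrredSub ρ Q W) (t : classStab ρ hW) :
    Q ⧸ scalarSub hW.2.1 →* Q ⧸ scalarSub hW.2.1 :=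
  QuotientGroup.map _ _ ((normalizerMonoidHom Q ⟨(t : G), t.2.1⟩ : MulAut Q) : Q →* Q)
    (map_le_iff_le_comap.1 (scalarSub_conj hW t))

theorem classHom_mk (hW : IrredSub ρ Q W) (t : classStab ρ hW) (g : Q) :
    classHom hW t (g : Q ⧸ scalarSub hW.2.1) =
      ((⟨(t : G) * g * (t : G)⁻¹, conj_mem t.2.1 g.2⟩ : Q) : Q ⧸ scalarSub hW.2.1) := rfl

theorem classHom_mul (hW : IrredSub ρ Q W) (a b : classStab ρ hW) (x : Q ⧸ scalarSub hW.2.1) :
    classHom hW (a * b) x = classHom hW a (classHom hW b x) := by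
  induction x using QuotientGroup.induction_on with
  | _ g =>
    simp only [classHom_mk]
    congr 1
    apply Subtype.ext
    simp [mul_assoc]

theorem classHom_one (hW : IrredSub ρ Q W) (x : Q ⧸ scalarSub hW.2.1) :
    classHom hW 1 x = x := by
  induction x using QuotientGroup.induction_on with
  | _ g => simp [classHom_mk]

/-- The action of the stabiliser of the class on `Q` modulo scalars. -/
noncomputable def classAction (hW : IrredSub ρ Q W) :
    classStab ρ hW →* MulAut (Q ⧸ scalarSub hW.2.1) :=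
  MonoidHom.mk'
    (fun t =>
      { toFun := classHom hW t
        invFun := classHom hW t⁻¹
        left_inv := fun x => by rw [← classHom_mul, inv_mul_cancel, classHom_one]
        right_inv := fun x => by rw [← classHom_mul, mul_inv_cancel, classHom_one]
        map_mul' := map_mul _ })
    (fun a b => MulEquiv.ext fun x => classHom_mul hW a b x)

theorem classAction_mk (hW : IrredSub ρ Q W) (t : classStab ρ hW) (g : Q) :
    classAction hW t (g : Q ⧸ scalarSub hW.2.1) =
      ((⟨(t : G) * g * (t : G)⁻¹, conj_mem t.2.1 g.2⟩ : Q) : Q ⧸ scalarSub hW.2.1) := rfl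

variable [IsAlgClosed K]

/-- Central commutators act as scalars. -/
theorem quotient_comm (hW : IrredSub ρ Q W)
    (hcls : ∀ a ∈ Q, ∀ b ∈ Q, ∀ c ∈ Q, ⁅a, b⁆ * c = c * ⁅a, b⁆) (a b : Q ⧸ scalarSub hW.2.1) :
    a * b = b * a := by
  haveI : Nontrivial W := Submodule.nontrivial_iff_ne_bot.2 hW.1
  induction a using QuotientGroup.induction_on with
  | _ g =>
    induction b using QuotientGroup.induction_on with
    | _ h =>
      rw [← QuotientGroup.mk_mul, ← QuotientGroup.mk_mul, QuotientGroup.eq]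
      refine (isIrred_restrictRep hW).exists_scalar _ fun x => ?_
      rw [← map_mul, ← map_mul]
      congr 1
      rw [show (g * h)⁻¹ * (h * g) = ⁅h⁻¹, g⁻¹⁆ by rw [commutatorElement_def]; group]
      exact Subtype.ext (hcls _ (inv_mem h.2) _ (inv_mem g.2) _ x.2)

end

end Cfsg.Agent.Lib.HallHigmanFermat
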